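import Cfsg.Agent.Lib.Schmidt.Recurrence

/-!
# The order of a cyclic section of class two

If an automorphism `ψ` fixes a central subgroup `Z` containing commutators and `p`-th powers and an element
`w` satisfies modulo `Z` the minimal polynomial of `ω`, of degree `a`, then the orbit of `w⁻¹ ψ(w)` generates a
subgroup of order at most `p ^ (a + a/2)`, and at most `p ^ a` when `ω⁻¹` is no root.
-/

set_option autoImplicit false

namespace CfsgLib.Schmidt

open Polynomial Subgroup
open scoped commutatorElement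

variable {G : Type*} [Group G] {p : ℕ}

/-- A central subgroup fixed by `ψ` with elementary abelian quotient. -/
structure Pack (p : ℕ) (ψ : MulAut G) (Z : Subgroup G) : Prop where
  central : Z ≤ center G
  comm : ∀ a b : G, ⁅a, b⁆ ∈ Z
  pow : ∀ x : G, x ^ p ∈ Z
  fixed : ∀ z ∈ Z, ψ z = z

/-- The ordered product `x^(n 0) (ψ x)^(n 1) ⋯`, the value at `x` of a polynomial in `ψ`. -/
def rel (ψ : MulAut G) (n : ℕ → ℕ) (d : ℕ) (x : G) : G :=
  ((List.range d).map fun i => ((ψ ^ i) x) ^ n i).prod

theorem map_rel {H : Type*} [Group H] {ψ : MulAut G} {φ : MulAut H} (f : G →* H)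
    (hf : ∀ x, f (ψ x) = φ (f x)) (n : ℕ → ℕ) (d : ℕ) (x : G) :
    f (rel ψ n d x) = rel φ n d (f x) := by
  have hi : ∀ i : ℕ, f ((ψ ^ i) x) = (φ ^ i) (f x) := by
    intro i
    induction i with
    | zero => rfl
    | succ i ih => rw [pow_succ', MulAut.mul_apply, hf, ih, pow_succ', MulAut.mul_apply]
  rw [rel, rel, map_list_prod, List.map_map]
  refine congrArg List.prod (List.map_congr_left fun i _ => ?_)
  simp only [Function.comp_apply, map_pow, hi]

theorem hom_rel {H : Type*} [CommGroup H] (ψ : MulAut G) (f : G →* H) (n : ℕ → ℕ) (d : ℕ) (x : G) :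
    f (rel ψ n d x) = ∏ i ∈ Finset.range d, f ((ψ ^ i) x) ^ n i := by
  rw [rel, map_list_prod, List.map_map,
    ← List.prod_toFinset _ (List.nodup_range), List.toFinset_range]
  simp only [Function.comp_apply, map_pow]

theorem pow_apply_comm (ψ : MulAut G) (i j : ℕ) (x : G) :
    (ψ ^ i) ((ψ ^ j) x) = (ψ ^ (i + j)) x := by
  rw [pow_add, MulAut.mul_apply]

/-- The central elements killed by `p`. -/
def centralTorsion (p : ℕ) (G : Type*) [Group G] : Subgroup G where
  carrier := {x | x ∈ center G ∧ x ^ p = 1}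
  one_mem' := ⟨one_mem _, one_pow p⟩
  mul_mem' := fun {a b} ha hb => ⟨mul_mem ha.1 hb.1, by
    rw [(show Commute a b from mem_center_iff.1 hb.1 a).mul_pow, ha.2, hb.2, one_mul]⟩
  inv_mem' := fun {a} ha => ⟨inv_mem ha.1, by rw [inv_pow, ha.2, inv_one]⟩

instance (p : ℕ) (G : Type*) [Group G] : CommGroup (centralTorsion p G) :=
  { (inferInstance : Group (centralTorsion p G)) with
    mul_comm := fun x y => Subtype.ext (mem_center_iff.1 y.2.1 x.1) }

instance (p : ℕ) (G : Type*) [Group G] : Module (ZMod p) (Additive (centralTorsion p G)) :=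
  AddCommGroup.zmodModule fun e => congrArg Additive.ofMul
    (Subtype.ext (Additive.toMul e).2.2 : (Additive.toMul e) ^ p = 1)

variable [Fact p.Prime] {K : Type*} [Field K] [Finite K] [Algebra (ZMod p) K] {ω : K}

/-- The coefficients as natural numbers. -/
noncomputable def coeffNat (h : (ZMod p)[X]) (i : ℕ) : ℕ := (h.coeff i).val

theorem sum_smul_eq_zero {A : Type*} [AddCommGroup A] [Module (ZMod p) A] (h : (ZMod p)[X]) (d : ℕ)
    (f : ℕ → A) (h0 : ∑ i ∈ Finset.range d, coeffNat h i • f i = 0) :
    ∑ i ∈ Finset.range d, h.coeff i • f i = 0 := by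
  refine (Finset.sum_congr rfl fun i _ => ?_).trans h0
  rw [coeffNat, ← Nat.cast_smul_eq_nsmul (ZMod p), ZMod.natCast_zmod_val]

theorem card_orbit_closure_le [Finite G] {q : ℕ} {ψ : MulAut G} {Z : Subgroup G} (PK : Pack p ψ Z)
    (hψ : ψ ^ q = 1) (hω : ω ^ q = 1)
    {a : ℕ} (haK : Module.finrank (ZMod p) K = a) (hdeg : (minpoly (ZMod p) ω).natDegree = a) (haq : a ≤ q)
    {w : G} (hrel : rel ψ (coeffNat (minpoly (ZMod p) ω)) (a + 1) w ∈ Z) :
    Nat.card (closure (Set.range fun i : ℕ => (ψ ^ i) (w⁻¹ * ψ w))) ≤ p ^ (a + a / 2) ∧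
    (aeval ω⁻¹ (minpoly (ZMod p) ω) ≠ 0 →
      Nat.card (closure (Set.range fun i : ℕ => (ψ ^ i) (w⁻¹ * ψ w))) ≤ p ^ a) := by
  classical
  set m := minpoly (ZMod p) ω with hm
  set W : ℕ → G := fun i => (ψ ^ i) w with hWdef
  have hdeg' : (minpoly (ZMod p) ω).natDegree = Module.finrank (ZMod p) K := hdeg.trans haK.symm
  have hfix : ∀ (i : ℕ), ∀ z ∈ Z, (ψ ^ i) z = z := by
    intro i z hz
    induction i with
    | zero => rfl
    | succ i ih => rw [pow_succ', MulAut.mul_apply, ih, PK.fixed z hz]
  have hWW : ∀ i j, (ψ ^ i) (W j) = W (i + j) := fun i j => pow_apply_comm ψ i j w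
  have hW0 : W 0 = w := rfl
  have hper : ∀ k i, W (q * k + i) = W i := by
    intro k i
    show (ψ ^ (q * k + i)) w = (ψ ^ i) w
    rw [pow_add, pow_mul, hψ, one_pow, one_mul]
  have hrelk : ∀ k, rel ψ (coeffNat m) (a + 1) (W k) = rel ψ (coeffNat m) (a + 1) w := by
    intro k
    have := map_rel (φ := ψ) (ψ ^ k).toMonoidHom (fun x => by
      show (ψ ^ k) (ψ x) = ψ ((ψ ^ k) x)
      rw [← MulAut.mul_apply, ← MulAut.mul_apply, ← pow_succ, ← pow_succ']) (coeffNat m) (a + 1) w
    rw [show W k = (ψ ^ k).toMonoidHom w from rfl, ← this]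
    exact hfix k _ hrel
  -- the central elementary abelian subgroup receiving the commutators
  have hcZ : ∀ x y : G, ⁅x, y⁆ ∈ center G := fun x y => PK.central (PK.comm x y)
  have hmulr : ∀ x y z : G, ⁅x, y * z⁆ = ⁅x, y⁆ * ⁅x, z⁆ := by
    intro x y z
    have hc := mem_center_iff.1 (hcZ x z) y
    calc ⁅x, y * z⁆ = ⁅x, y⁆ * (y * ⁅x, z⁆ * y⁻¹) := by simp only [commutatorElement_def]; group
      _ = ⁅x, y⁆ * ⁅x, z⁆ := by rw [hc, mul_inv_cancel_right]
  let β₀ : G →* G := MonoidHom.mk' (fun x => ⁅w, x⁆) (hmulr w)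
  have hβp : ∀ x : G, ⁅w, x⁆ ^ p = 1 := by
    intro x
    have h1 : β₀ (x ^ p) = ⁅w, x⁆ ^ p := map_pow β₀ x p
    rw [← h1]
    exact commutatorElement_eq_one_iff_mul_comm.2 (mem_center_iff.1 (PK.central (PK.pow x)) w)
  let β : G →* (centralTorsion p G) := MonoidHom.mk' (fun x => (⟨⁅w, x⁆, hcZ w x, hβp x⟩ : centralTorsion p G))
    (fun x y => Subtype.ext (hmulr w x y))
  let ι : (centralTorsion p G) →* G := (centralTorsion p G).subtype
  have hιβ : ∀ x, ι (β x) = ⁅w, x⁆ := fun x => rfl
  let c : ℕ → Additive (centralTorsion p G) := fun k => Additive.ofMul (β (W k))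
  have hcrec : ∀ k, ∑ i ∈ Finset.range (m.natDegree + 1), m.coeff i • c (k + i) = 0 := by
    intro k
    rw [hdeg]
    refine sum_smul_eq_zero m (a + 1) (fun i => c (k + i)) ?_
    have h1 : β (rel ψ (coeffNat m) (a + 1) (W k)) = 1 := by
      rw [hrelk k]
      exact Subtype.ext (
        (commutatorElement_eq_one_iff_mul_comm.2 (mem_center_iff.1 (PK.central hrel) w)))
    rw [hom_rel] at h1
    rw [← ofMul_one, ← h1, ofMul_prod]
    refine Finset.sum_congr rfl fun i _ => ?_
    show coeffNat m i • Additive.ofMul (β (W (k + i))) = _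
    rw [← ofMul_pow, show (ψ ^ i) (W k) = W (k + i) by rw [hWW, add_comm]]
  obtain ⟨L, hL⟩ := exists_linearMap_of_recurrence hdeg' c hcrec
  -- commutators of conjugates only depend on the distance
  have hshift : ∀ i k, ⁅W i, W (i + k)⁆ = ι (β (W k)) := by
    intro i k
    rw [hιβ, ← hWW i k, show W i = (ψ ^ i) w from rfl, ← map_commutatorElement]
    exact hfix i _ (PK.comm _ _)
  have hneg : ∀ j, c ((q - 1) * j) = - c j := by
    intro j
    show Additive.ofMul (β (W ((q - 1) * j))) = - Additive.ofMul (β (W j))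
    rw [← ofMul_inv]
    refine congrArg Additive.ofMul (Subtype.ext ?_)
    have h1 := hshift j ((q - 1) * j)
    have h2 : j + (q - 1) * j = q * j + 0 := by
      rcases Nat.eq_zero_or_pos q with hq | hq
      · have : j = 0 ∨ 0 < j := Nat.eq_zero_or_pos j
        subst hq
        have ha0 : a = 0 := Nat.le_zero.1 haq
        have := haK.trans ha0
        exact absurd this Module.finrank_pos.ne'
      · rw [add_zero, Nat.sub_mul, one_mul, Nat.add_sub_cancel' (Nat.le_mul_of_pos_left _ hq)]
    rw [h2, hper j 0, hW0] at h1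
    show ι (β (W ((q - 1) * j))) = (ι (β (W j)))⁻¹
    rw [← h1, hιβ, commutatorElement_inv]
  have hperc : ∀ k i, c (q * k + i) = c i := fun k i => by simp only [c, hper]
  have hq0 : 0 < q := (Nat.pos_of_ne_zero fun h => (Module.finrank_pos (R := ZMod p) (M := K)).ne'
    (haK.trans (Nat.le_zero.1 (h ▸ haq))))
  -- a spanning set for the commutators
  let Φ : (Fin (a / 2) → ZMod p) →ₗ[ZMod p] Additive (centralTorsion p G) :=
    Fintype.linearCombination (ZMod p) (fun i => c ((i : ℕ) + 1))
  let SR : Submodule (ZMod p) (Additive (centralTorsion p G)) := LinearMap.range Φ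
  have hc0 : c 0 = 0 := by
    show Additive.ofMul (β (W 0)) = 0
    rw [← ofMul_one]
    exact congrArg Additive.ofMul (Subtype.ext (commutatorElement_self w))
  have hsmall : ∀ i, i ≤ a / 2 → c i ∈ SR := by
    intro i hi
    rcases Nat.eq_zero_or_pos i with h0 | hpos
    · rw [h0, hc0]; exact Submodule.zero_mem _
    · rw [show c i = (fun j : Fin (a / 2) => c ((j : ℕ) + 1)) ⟨i - 1, by omega⟩ by
        show c i = c (i - 1 + 1)
        rw [Nat.sub_add_cancel hpos]]
      show _ ∈ LinearMap.range Φ
      rw [Fintype.range_linearCombination]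
      exact Submodule.subset_span ⟨_, rfl⟩
  set s := (a - 1) / 2 with hs
  set u : K := ω ^ ((q - 1) * s) with hu
  have hω0 : ω ≠ 0 := fun h => by rw [h, zero_pow hq0.ne'] at hω; exact zero_ne_one hω
  have hLrange : ∀ x : K, L (x * u) ∈ SR := by
    intro x
    have hx : x ∈ Submodule.span (ZMod p) (Set.range fun i : Fin m.natDegree => ω ^ (i : ℕ)) :=
      (span_pow_eq_top hdeg').ge trivial
    induction hx using Submodule.span_induction with
    | mem y hy =>
      obtain ⟨j, rfl⟩ := hy
      have hj : (j : ℕ) < a := hdeg ▸ j.2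
      rw [hu, ← pow_add, hL]
      by_cases hjs : s ≤ (j : ℕ)
      · have e : (j : ℕ) + (q - 1) * s = q * s + ((j : ℕ) - s) := by
          rw [Nat.sub_mul, one_mul]
          have : s ≤ q * s := Nat.le_mul_of_pos_left s hq0
          omega
        rw [e, hperc]
        exact hsmall _ (by omega)
      · have e : (j : ℕ) + (q - 1) * s = q * (j : ℕ) + (q - 1) * (s - (j : ℕ)) := by
          zify [hq0, (not_le.1 hjs).le, Nat.one_le_of_lt hq0]
          ring
        rw [e, hperc, hneg]
        exact Submodule.neg_mem _ (hsmall _ (by omega))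
    | zero => rw [zero_mul, map_zero]; exact Submodule.zero_mem _
    | add y z _ _ hy hz => rw [add_mul, map_add]; exact Submodule.add_mem _ hy hz
    | smul t y _ hy => rw [smul_mul_assoc, map_smul]; exact Submodule.smul_mem _ _ hy
  have hu0 : u ≠ 0 := pow_ne_zero _ hω0
  have hcmem : ∀ k, c k ∈ SR := by
    intro k
    have := hLrange (ω ^ k * u⁻¹)
    rwa [mul_assoc, inv_mul_cancel₀ hu0, mul_one, hL] at this
  -- the central subgroup
  let R : Subgroup (centralTorsion p G) := SR.toAddSubgroup.toSubgroup'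
  let C : Subgroup G := R.map ι
  have hCc : C ≤ center G := by
    rintro _ ⟨e, -, rfl⟩
    exact e.2.1
  have hRmem : ∀ k, ι (β (W k)) ∈ C := fun k => mem_map_of_mem _ (hcmem k)
  have hCcard : Nat.card C ≤ p ^ (a / 2) := by
    calc Nat.card C ≤ Nat.card R :=
          Nat.card_le_card_of_surjective _ (ι.subgroupMap_surjective R)
      _ = Nat.card SR := rfl
      _ ≤ Nat.card (Fin (a / 2) → ZMod p) :=
          Nat.card_le_card_of_surjective _ Φ.surjective_rangeRestrict
      _ = p ^ (a / 2) := by simp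
  have hCbot : aeval ω⁻¹ m ≠ 0 → C = ⊥ := by
    intro hne
    have hL0 : ∀ k, L (ω ^ k * aeval (ω ^ (q - 1)) m) = 0 := by
      intro k
      rw [aeval_eq_sum_range, Finset.mul_sum, map_sum]
      have hterm : ∀ i, L (ω ^ k * (m.coeff i • (ω ^ (q - 1)) ^ i)) =
          -(m.coeff i • c ((q - 1) * k + i)) := by
        intro i
        rw [mul_smul_comm, map_smul, ← pow_mul, ← pow_add, hL, ← smul_neg]
        congr 1
        have h1 := hneg ((q - 1) * k + i)
        have h2 : (q - 1) * ((q - 1) * k + i) = q * ((q - 2) * k) + (k + (q - 1) * i) ∨ q = 1 := by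
          rcases eq_or_ne q 1 with h | h
          · exact Or.inr h
          · refine Or.inl ?_
            zify [show 1 ≤ q by omega, show 2 ≤ q by omega]
            ring
        rcases h2 with h2 | h2
        · rw [h2, hperc] at h1
          exact h1
        · have hz : ∀ t, c t = 0 := fun t => by
            have := hperc t 0
            rwa [h2, one_mul, add_zero, hc0] at this
          rw [hz, hz, neg_zero]
      rw [Finset.sum_congr rfl fun i _ => hterm i, Finset.sum_neg_distrib, hcrec, neg_zero]
    have hinv : ω ^ (q - 1) = ω⁻¹ := eq_inv_of_mul_eq_one_left (by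
      rw [← pow_succ, Nat.sub_add_cancel hq0, hω])
    rw [hinv] at hL0
    have hall : ∀ x : K, L (x * aeval ω⁻¹ m) = 0 := by
      intro x
      have hx : x ∈ Submodule.span (ZMod p) (Set.range fun i : Fin m.natDegree => ω ^ (i : ℕ)) :=
        (span_pow_eq_top hdeg').ge trivial
      induction hx using Submodule.span_induction with
      | mem y hy => obtain ⟨j, rfl⟩ := hy; exact hL0 j
      | zero => rw [zero_mul, map_zero]
      | add y z _ _ hy hz => rw [add_mul, map_add, hy, hz, add_zero]
      | smul t y _ hy => rw [smul_mul_assoc, map_smul, hy, smul_zero]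
    have hc : ∀ k, c k = 0 := fun k => by
      have := hall (ω ^ k * (aeval ω⁻¹ m)⁻¹)
      rwa [mul_assoc, inv_mul_cancel₀ hne, mul_one, hL] at this
    rw [eq_bot_iff]
    rintro _ ⟨e, he, rfl⟩
    obtain ⟨g, hg⟩ := he
    rw [Fintype.linearCombination_apply] at hg
    simp only [hc, smul_zero, Finset.sum_const_zero] at hg
    rw [mem_bot, show e = 1 from congrArg Additive.toMul hg.symm, map_one]
  -- the quotient by the central subgroup
  haveI hCn : C.Normal := ⟨fun x hx g => by
    rwa [mem_center_iff.1 (hCc hx) g, mul_inv_cancel_right]⟩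
  let π : G →* G ⧸ C := QuotientGroup.mk' C
  have hcommW : ∀ i j, Commute (π (W i)) (π (W j)) := by
    have key : ∀ i k, Commute (π (W i)) (π (W (i + k))) := by
      intro i k
      refine commutatorElement_eq_one_iff_mul_comm.1 ?_
      rw [← map_commutatorElement, hshift]
      exact (QuotientGroup.eq_one_iff _).2 (hRmem k)
    intro i j
    rcases le_total i j with h | h
    · obtain ⟨k, rfl⟩ := Nat.exists_eq_add_of_le h
      exact key i k
    · obtain ⟨k, rfl⟩ := Nat.exists_eq_add_of_le h
      exact (key j k).symm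
  let A : Subgroup (G ⧸ C) := closure (Set.range fun i => π (W i))
  letI : CommGroup A :=
    { (inferInstance : Group A) with
      mul_comm := fun x y => by
        have hA : A ≤ centralizer (A : Set (G ⧸ C)) := by
          have h1 : A ≤ centralizer (Set.range fun i => π (W i)) := by
            rw [closure_le]
            rintro _ ⟨i, rfl⟩
            rw [SetLike.mem_coe, mem_centralizer_iff]
            rintro _ ⟨j, rfl⟩
            exact (hcommW j i).eq
          rw [closure_le]
          rintro _ ⟨i, rfl⟩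
          rw [SetLike.mem_coe, mem_centralizer_iff]
          intro z hz
          exact (mem_centralizer_iff.1 (h1 hz) _ ⟨i, rfl⟩).symm
        exact Subtype.ext (mem_centralizer_iff.1 (hA y.2) x x.2) }
  let V : ℕ → A := fun i => ⟨π (W i), subset_closure ⟨i, rfl⟩⟩
  have hVp : ∀ i, V i ^ p = V 0 ^ p := by
    intro i
    refine Subtype.ext ?_
    show π (W i) ^ p = π (W 0) ^ p
    rw [← map_pow, ← map_pow, hfix i _ (PK.pow w), hW0, map_pow]
  let y : ℕ → Additive (centralTorsion p A) := fun i => Additive.ofMul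
    ⟨(V i)⁻¹ * V (i + 1), mem_center_iff.2 fun g => mul_comm g _, by
      rw [mul_pow, inv_pow, hVp i, hVp (i + 1), inv_mul_cancel]⟩
  have hyrec : ∀ k, ∑ i ∈ Finset.range (m.natDegree + 1), m.coeff i • y (k + i) = 0 := by
    intro k
    rw [hdeg]
    refine sum_smul_eq_zero m (a + 1) (fun i => y (k + i)) ?_
    have hr : ∀ k, ∏ i ∈ Finset.range (a + 1), V (k + i) ^ coeffNat m i =
        ∏ i ∈ Finset.range (a + 1), V i ^ coeffNat m i := by
      intro k
      refine A.subtype_injective ?_
      have e : ∀ k, A.subtype (∏ i ∈ Finset.range (a + 1), V (k + i) ^ coeffNat m i) =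
          π (rel ψ (coeffNat m) (a + 1) (W k)) := by
        intro k
        rw [rel, map_list_prod π, List.map_map,
          ← List.toFinset_range, List.prod_toFinset _ List.nodup_range, map_list_prod A.subtype,
          List.map_map]
        refine congrArg List.prod (List.map_congr_left fun i _ => ?_)
        simp only [Function.comp_apply, map_pow]
        rw [hWW, add_comm i k]
        rfl
      have e0 := e 0
      simp only [zero_add] at e0
      rw [e k, e0, hrelk, hrelk]
    have key : ∏ i ∈ Finset.range (a + 1), ((V (k + i))⁻¹ * V (k + i + 1)) ^ coeffNat m i = 1 := by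
      simp only [mul_pow, inv_pow, Finset.prod_mul_distrib, Finset.prod_inv_distrib]
      rw [inv_mul_eq_one, hr k, ← hr (k + 1)]
      exact Finset.prod_congr rfl fun i _ => by rw [Nat.add_right_comm]
    refine Additive.toMul.injective (Subtype.ext ?_)
    rw [toMul_sum, SubmonoidClass.coe_finsetProd]
    refine Eq.trans (Finset.prod_congr rfl fun i _ => ?_) key
    rfl
  obtain ⟨L', hL'⟩ := exists_linearMap_of_recurrence hdeg' y hyrec
  let θ : Multiplicative K →* G ⧸ C :=
    A.subtype.comp ((centralTorsion p A).subtype.comp (AddMonoidHom.toMultiplicativeLeft L'.toAddMonoidHom))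
  have hYle : closure (Set.range fun i : ℕ => (ψ ^ i) (w⁻¹ * ψ w)) ≤ θ.range.comap π := by
    rw [closure_le]
    rintro _ ⟨i, rfl⟩
    refine ⟨Multiplicative.ofAdd (ω ^ i), ?_⟩
    show (((Additive.toMul (L' (ω ^ i)) : centralTorsion p A) : A) : G ⧸ C) = π ((ψ ^ i) (w⁻¹ * ψ w))
    rw [hL', map_mul, map_inv, ← MulAut.mul_apply, ← pow_succ, map_mul, map_inv]
    rfl
  have hθcard : Nat.card θ.range ≤ p ^ a := by
    calc Nat.card θ.range ≤ Nat.card (Multiplicative K) :=
          Nat.card_le_card_of_surjective _ θ.rangeRestrict_surjective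
      _ = Nat.card K := rfl
      _ = p ^ a := by rw [Module.natCard_eq_pow_finrank (K := ZMod p), Nat.card_zmod, haK]
  have hcomap : Nat.card (θ.range.comap π) = Nat.card C * Nat.card θ.range := by
    have h1 : Nat.card (θ.range.comap π) * (θ.range.comap π).index = Nat.card G :=
      card_mul_index _
    rw [index_comap_of_surjective _ (QuotientGroup.mk'_surjective C)] at h1
    have h2 := card_mul_index θ.range
    have h3 := card_eq_card_quotient_mul_card_subgroup C
    rw [h3, ← h2] at h1
    refine Nat.eq_of_mul_eq_mul_right (Nat.pos_of_ne_zero θ.range.index_ne_zero_of_finite) ?_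
    rw [h1]
    ring
  have hY := (card_le_of_le hYle).trans hcomap.le
  refine ⟨hY.trans ?_, fun hne => hY.trans ?_⟩
  · rw [pow_add, mul_comm (p ^ a)]
    exact Nat.mul_le_mul hCcard hθcard
  · rw [(Subgroup.eq_bot_iff_card _).1 (hCbot hne), one_mul]
    exact hθcard

end CfsgLib.Schmidt
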