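import Mathlib

/-!
# Primitive roots generating a finite field
-/

set_option autoImplicit false

namespace CfsgLib.Schmidt

open Polynomial

variable {p q : ℕ} [hp : Fact p.Prime] [hq : Fact q.Prime]

theorem natCast_ne_zero_of_ne (hpq : p ≠ q) : (p : ZMod q) ≠ 0 := fun h =>
  hpq.symm ((Nat.prime_dvd_prime_iff_eq hq.out hp.out).1 ((ZMod.natCast_eq_zero_iff p q).1 h))

theorem orderOf_dvd_sub_one (hpq : p ≠ q) : orderOf (p : ZMod q) ∣ q - 1 :=
  orderOf_dvd_of_pow_eq_one (ZMod.pow_card_sub_one_eq_one (natCast_ne_zero_of_ne hpq))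

theorem orderOf_pos' (hpq : p ≠ q) : 0 < orderOf (p : ZMod q) :=
  Nat.pos_of_dvd_of_pos (orderOf_dvd_sub_one hpq) (by have := hq.out.two_le; omega)

theorem orderOf_lt (hpq : p ≠ q) : orderOf (p : ZMod q) < q := by
  have := Nat.le_of_dvd (by have := hq.out.two_le; omega) (orderOf_dvd_sub_one (p := p) (q := q) hpq)
  have := hq.out.two_le
  omega

variable {K : Type*} [Field K] [Finite K] [Algebra (ZMod p) K]

theorem finrank_eq {a : ℕ} (hK : Nat.card K = p ^ a) : Module.finrank (ZMod p) K = a := by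
  rw [Module.natCard_eq_pow_finrank (K := ZMod p), Nat.card_zmod] at hK
  exact Nat.pow_right_injective hp.out.two_le hK

theorem exists_primitiveRoot {a : ℕ} (ha : a = orderOf (p : ZMod q)) (hK : Nat.card K = p ^ a) :
    ∃ ω : K, IsPrimitiveRoot ω q := by
  have h1 : q ∣ p ^ a - 1 := by
    rw [← ZMod.natCast_eq_zero_iff, Nat.cast_sub (Nat.one_le_pow _ _ hp.out.pos), Nat.cast_pow,
      ha, pow_orderOf_eq_one, Nat.cast_one, sub_self]
  rw [← hK, ← Nat.card_units] at h1
  obtain ⟨u, hu⟩ := exists_prime_orderOf_dvd_card' q h1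
  refine ⟨u, ?_⟩
  have := IsPrimitiveRoot.orderOf (u : K)
  rwa [orderOf_units, hu] at this

variable {ω : K} (hω : IsPrimitiveRoot ω q)
include hω

omit [Finite K] [Algebra (ZMod p) K] hp in
theorem natCast_eq_of_pow_eq {i j : ℕ} (h : ω ^ i = ω ^ j) : (i : ZMod q) = j := by
  rw [ZMod.natCast_eq_natCast_iff, hω.eq_orderOf]
  exact (hω.isOfFinOrder hq.out.ne_zero).pow_eq_pow_iff_modEq.1 h

theorem roots_finset {a : ℕ} (ha : a = orderOf (p : ZMod q)) :
    ∀ s : Finset K, (∀ x ∈ s, aeval x (minpoly (ZMod p) ω) = 0) →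
      s.card ≤ (minpoly (ZMod p) ω).natDegree ∧
      (∃ t : Finset K, t.card = a ∧ (∀ x ∈ t, ∃ i < a, x = ω ^ p ^ i) ∧
        ∀ x ∈ t, aeval x (minpoly (ZMod p) ω) = 0) := by
  classical
  intro s hs
  have hne : minpoly (ZMod p) ω ≠ 0 := minpoly.ne_zero (IsIntegral.of_finite _ _)
  constructor
  · have := card_le_degree_of_subset_roots (Z := s)
      (p := (minpoly (ZMod p) ω).map (algebraMap (ZMod p) K)) (fun x hx => by
        rw [mem_roots (Polynomial.map_ne_zero hne), IsRoot, eval_map, ← aeval_def]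
        exact hs x hx)
    rwa [natDegree_map] at this
  · refine ⟨(Finset.range a).image fun i => ω ^ p ^ i, ?_, ?_, ?_⟩
    · rw [Finset.card_image_of_injOn, Finset.card_range]
      intro i hi j hj h
      have h1 := natCast_eq_of_pow_eq hω h
      push_cast at h1
      exact pow_injOn_Iio_orderOf (by simpa [← ha] using hi) (by simpa [← ha] using hj) h1
    · intro x hx
      obtain ⟨i, hi, rfl⟩ := Finset.mem_image.1 hx
      exact ⟨i, Finset.mem_range.1 hi, rfl⟩
    · intro x hx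
      obtain ⟨i, -, rfl⟩ := Finset.mem_image.1 hx
      clear hx
      induction i with
      | zero => simp
      | succ i ih =>
        have := aeval_algHom_apply (FiniteField.frobeniusAlgHom (ZMod p) K) (ω ^ p ^ i)
          (minpoly (ZMod p) ω)
        rw [FiniteField.coe_frobeniusAlgHom, ZMod.card] at this
        simp only at this
        rw [pow_succ, pow_mul, this, ih, zero_pow hp.out.ne_zero]

theorem natDegree_minpoly {a : ℕ} (ha : a = orderOf (p : ZMod q)) (hK : Nat.card K = p ^ a) :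
    (minpoly (ZMod p) ω).natDegree = a := by
  refine le_antisymm ((minpoly.natDegree_le ω).trans (finrank_eq hK).le) ?_
  obtain ⟨t, ht, -, ht0⟩ := (roots_finset hω ha ∅ (by simp)).2
  exact ht ▸ (roots_finset hω ha t ht0).1

theorem aeval_inv_ne_zero {a : ℕ} (ha : a = orderOf (p : ZMod q)) (hK : Nat.card K = p ^ a)
    (hodd : a % 2 = 1) (hq2 : q ≠ 2) : aeval ω⁻¹ (minpoly (ZMod p) ω) ≠ 0 := by
  classical
  intro h0
  obtain ⟨t, ht, htmem, ht0⟩ := (roots_finset hω ha ∅ (by simp)).2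
  have hmem : ω⁻¹ ∈ t := by
    by_contra hn
    have := (roots_finset hω ha (insert ω⁻¹ t) (fun x hx => by
      rcases Finset.mem_insert.1 hx with rfl | hx
      · exact h0
      · exact ht0 x hx)).1
    rw [Finset.card_insert_of_notMem hn, natDegree_minpoly hω ha hK, ht] at this
    omega
  obtain ⟨i, hi, hieq⟩ := htmem _ hmem
  have h1 : ω ^ (p ^ i + 1) = ω ^ 0 := by
    rw [pow_succ, ← hieq, inv_mul_cancel₀ (hω.ne_zero hq.out.ne_zero), pow_zero]
  have h2 := natCast_eq_of_pow_eq hω h1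
  push_cast at h2
  have h3 : (p : ZMod q) ^ i = -1 := eq_neg_of_add_eq_zero_left h2
  have h4 : a ∣ 2 * i := ha ▸ orderOf_dvd_of_pow_eq_one (by rw [mul_comm, pow_mul, h3, neg_one_sq])
  have h5 : a ∣ i := (Nat.Coprime.dvd_of_dvd_mul_left (by
    rw [Nat.coprime_comm]; exact (Nat.prime_two.coprime_iff_not_dvd).2 (by omega)) h4)
  have hi0 : i = 0 := Nat.eq_zero_of_dvd_of_lt h5 hi
  rw [hi0, pow_zero] at h3
  have h6 : ((2 : ℕ) : ZMod q) = 0 := by
    push_cast
    linear_combination h3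
  exact hq2 ((Nat.prime_dvd_prime_iff_eq hq.out Nat.prime_two).1 ((ZMod.natCast_eq_zero_iff _ _).1 h6))

theorem pow_half_add_one {a n : ℕ} (ha : a = orderOf (p : ZMod q)) (hn : a = 2 * n) (hn0 : 0 < n) :
    ω ^ (p ^ n + 1) = 1 := by
  refine (hω.pow_eq_one_iff_dvd _).2 ((ZMod.natCast_eq_zero_iff _ _).1 ?_)
  push_cast
  have h1 : ((p : ZMod q) ^ n) ^ 2 = 1 := by rw [← pow_mul, mul_comm, ← hn, ha, pow_orderOf_eq_one]
  rcases sq_eq_one_iff.1 h1 with h | h
  · exact absurd h (pow_ne_one_of_lt_orderOf hn0.ne' (by omega))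
  · rw [h, neg_add_cancel]

end CfsgLib.Schmidt
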