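import Cfsg.Agent.Lib.Schmidt.Structure
import Cfsg.Agent.Lib.Transfer.Frobenius

/-!
# Minimal non-`p`-nilpotent groups of order `p^t q^r`
-/

set_option autoImplicit false

namespace CfsgLib.Schmidt

open Subgroup
open CfsgLib.Invol.SchmidtSylow (Data)

variable {p q r : ℕ} [hp : Fact p.Prime] [hq : Fact q.Prime] {X : Type*} [Group X] [Finite X]

/-- A minimal non-`p`-nilpotent group of order `p^t q^r` is a `p`-group extended by a cyclic group. -/
theorem exists_decomp (hpq : p ≠ q) (hX : ¬ Cfsg.HasNormalPComplement p X)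
    (hsub : ∀ K : Subgroup X, K ≠ ⊤ → Cfsg.HasNormalPComplement p K)
    {t : ℕ} (hcard : Nat.card X = p ^ t * q ^ r) :
    ∃ (P : Subgroup X) (g : X), P.Normal ∧ IsPGroup p P ∧ P ⊔ zpowers g = ⊤ ∧
      orderOf g = q ^ r ∧ ∃ x ∈ P, g * x * g⁻¹ ≠ x := by
  rw [CfsgLib.Transfer.hasNormalPComplement_iff_frobenius] at hX
  push Not at hX
  obtain ⟨D, hD, g, hgn, hgp, hgc⟩ := hX
  have htop : D ⊔ zpowers g = ⊤ := by
    by_contra hne
    have hK := hsub _ hne
    rw [CfsgLib.Transfer.hasNormalPComplement_iff_frobenius] at hK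
    refine hgc ?_
    set K := D ⊔ zpowers g
    have hDK : D ≤ K := le_sup_left
    have hgK : g ∈ K := mem_sup_right (mem_zpowers g)
    have h := hK (D.subgroupOf K) ((hD.of_equiv (subgroupOfEquivOfLe hDK).symm)) ⟨g, hgK⟩ (by
        rw [← subgroupOf_normalizer_eq hDK]; exact hgn) (by rwa [Subgroup.orderOf_mk])
    rw [mem_centralizer_iff] at h ⊢
    exact fun d hd => congrArg Subtype.val (h ⟨d, hDK hd⟩ hd)
  have hDn : D.Normal := normalizer_eq_top_iff.1
    (eq_top_iff.2 (htop ▸ sup_le le_normalizer (zpowers_le.2 hgn)))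
  haveI := hDn
  obtain ⟨d, hd⟩ := IsPGroup.iff_card.1 hD
  have hord : orderOf g ∣ q ^ r := (hgp.pow_right t).dvd_of_dvd_mul_left
    (hcard ▸ orderOf_dvd_natCard g)
  obtain ⟨s, hs, hgs⟩ := (Nat.dvd_prime_pow hq.out).1 hord
  have hcomp : IsComplement' D (zpowers g) := isComplement'_of_disjoint_and_mul_eq_univ
    (disjoint_of_coprime_natCard (by rw [hd, Nat.card_zpowers]; exact (hgp.pow_right d).symm))
    (by rw [← normal_mul, htop, coe_top])
  have hmul := hcomp.card_mul_card
  rw [hd, Nat.card_zpowers, hgs, hcard] at hmul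
  have hrs : r = s := by
    refine le_antisymm ((Nat.pow_dvd_pow_iff_le_right hq.out.one_lt).1 ?_) hs
    exact (Nat.Coprime.pow r d ((Nat.coprime_primes hq.out hp.out).2 hpq.symm)).dvd_of_dvd_mul_left
      (hmul ▸ Dvd.intro_left _ rfl)
  refine ⟨D, g, hDn, hD, htop, hgs.trans (by rw [hrs]), ?_⟩
  by_contra hc
  push Not at hc
  exact hgc (mem_centralizer_iff.2 fun x hx => (mul_inv_eq_iff_eq_mul.1 (hc x hx)).symm)

omit [Finite X] in
theorem not_subset_of_orderOf {P : Subgroup X} (hpq : p ≠ q) (hP : IsPGroup p P) {g : X}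
    (hg : orderOf g = q ^ r) {h : X} (hh : h ∈ zpowers g) (hhP : h ∈ P) : h = 1 := by
  obtain ⟨k, hk⟩ := hP ⟨h, hhP⟩
  have h1 : h ^ p ^ k = 1 := congrArg Subtype.val hk
  have h2 : orderOf h ∣ q ^ r := hg ▸ orderOf_dvd_of_mem_zpowers hh
  exact orderOf_eq_one_iff.1 (Nat.eq_one_of_dvd_coprimes
    (Nat.Coprime.pow k r ((Nat.coprime_primes hp.out hq.out).2 hpq)) (orderOf_dvd_of_pow_eq_one h1) h2)

/-- The automorphism induced on the normal Sylow subgroup of a minimal non-`p`-nilpotent group. -/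
theorem data_of_minimal (hpq : p ≠ q) (hr : 1 ≤ r)
    (hsub : ∀ K : Subgroup X, K ≠ ⊤ → Cfsg.HasNormalPComplement p K)
    {P : Subgroup X} [hPn : P.Normal] (hP : IsPGroup p P) {g : X} (htop : P ⊔ zpowers g = ⊤)
    (hg : orderOf g = q ^ r) (hne : ∃ x ∈ P, g * x * g⁻¹ ≠ x) :
    Data p q (MulAut.conjNormal g : MulAut P) ∧ g ^ q ∈ center X := by
  have key : ∀ (L : Subgroup X), IsPGroup p L → ∀ h : X, h ∈ zpowers g → h ∈ normalizer (L : Set X) →
      L ⊔ zpowers h ≠ ⊤ → ∀ x ∈ L, h * x * h⁻¹ = x := by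
    intro L hL h hh hhn hne' x hx
    have hK := hsub _ hne'
    rw [CfsgLib.Transfer.hasNormalPComplement_iff_frobenius] at hK
    set K := L ⊔ zpowers h
    have hLK : L ≤ K := le_sup_left
    have hhK : h ∈ K := mem_sup_right (mem_zpowers h)
    have h1 := hK (L.subgroupOf K) ((hL.of_equiv (subgroupOfEquivOfLe hLK).symm)) ⟨h, hhK⟩ (by
        rw [← subgroupOf_normalizer_eq hLK]; exact hhn) (by
        rw [Subgroup.orderOf_mk]
        exact Nat.Coprime.coprime_dvd_left (hg ▸ orderOf_dvd_of_mem_zpowers hh)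
          (Nat.Coprime.pow_left r ((Nat.coprime_primes hq.out hp.out).2 hpq.symm)))
    rw [mem_centralizer_iff] at h1
    have h2 : x * h = h * x := congrArg Subtype.val (h1 ⟨x, hLK hx⟩ hx)
    rw [← h2, mul_inv_cancel_right]
  have hgq : g ^ q ∈ center X := by
    have hh : g ^ q ∈ zpowers g := pow_mem (mem_zpowers g) q
    have hne' : P ⊔ zpowers (g ^ q) ≠ ⊤ := by
      intro ht
      obtain ⟨x, hx, y, hy, hxy⟩ := mem_sup_of_normal_left.1 (ht.ge (mem_top g))
      have hy' : y ∈ zpowers g := zpowers_le.2 hh hy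
      have hx1 : x = 1 := not_subset_of_orderOf hpq hP hg (by
        rw [eq_mul_inv_of_mul_eq hxy]; exact mul_mem (mem_zpowers g) (inv_mem hy')) hx
      rw [hx1, one_mul] at hxy
      subst hxy
      have h1 := orderOf_dvd_of_mem_zpowers hy
      rw [hg, orderOf_pow_of_dvd hq.out.ne_zero (hg ▸ dvd_pow_self q (by omega)), hg] at h1
      have h2 := Nat.le_of_dvd (Nat.div_pos (Nat.le_self_pow (by omega) q) hq.out.pos) h1
      exact absurd (Nat.div_lt_self (pow_pos hq.out.pos r) hq.out.one_lt) (not_lt.2 h2)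
    refine mem_center_iff.2 fun z => ?_
    have hz : z ∈ centralizer ({g ^ q} : Set X) := by
      refine (show ⊤ ≤ centralizer ({g ^ q} : Set X) from htop ▸ sup_le (fun x hx => ?_)
        (zpowers_le.2 ?_)) (mem_top z)
      · refine mem_centralizer_singleton_iff.2 ?_
        exact (mul_inv_eq_iff_eq_mul.1
          (key P hP (g ^ q) hh (by rw [normalizer_eq_top]; exact mem_top _) hne' x hx)).symm
      · exact mem_centralizer_singleton_iff.2 ((Commute.refl g).pow_right q).eq
    exact mem_centralizer_singleton_iff.1 hz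
  refine ⟨⟨hP, hq.out, hpq.symm, ?_, fun h => ?_, fun L hL hne' k hk => ?_⟩, hgq⟩
  · rw [← map_pow]
    refine MulEquiv.ext fun x => Subtype.ext ?_
    rw [MulAut.conjNormal_apply, ← mem_center_iff.1 hgq, mul_inv_cancel_right]
    rfl
  · obtain ⟨x, hx, hgx⟩ := hne
    have h1 := congrArg (fun f : MulAut P => ((f ⟨x, hx⟩ : P) : X)) h
    simp only [MulAut.conjNormal_apply, MulAut.one_apply] at h1
    exact hgx h1
  · set L' := L.map P.subtype with hL'
    have hgn : g ∈ normalizer (L' : Set X) := by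
      have hc : L'.map (MulAut.conj g).toMonoidHom = L' := by
        refine eq_of_le_of_card_ge ?_ (card_map_of_injective (MulAut.conj g).injective).ge
        rintro _ ⟨_, ⟨y, hy, rfl⟩, rfl⟩
        exact ⟨MulAut.conjNormal g y, hL.le ⟨y, hy, rfl⟩, by simp⟩
      rw [mem_normalizer_iff]
      intro x
      constructor
      · intro hx
        exact hc.le ⟨x, hx, rfl⟩
      · intro hx
        obtain ⟨y, hy, he⟩ := hc.ge hx
        rwa [← (MulAut.conj g).injective (show MulAut.conj g y = MulAut.conj g x from he)]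
    have hne'' : L' ⊔ zpowers g ≠ ⊤ := by
      intro ht
      refine hne' (eq_top_iff.2 fun x _ => ?_)
      have hxm : (x : X) ∈ ((L' ⊔ zpowers g : Subgroup X) : Set X) := ht.ge (mem_top _)
      have hzn : zpowers g ≤ normalizer (L' : Set X) := zpowers_le.2 hgn
      rw [coe_mul_of_right_le_normalizer_left L' (zpowers g) hzn] at hxm
      obtain ⟨y, ⟨y', hy', rfl⟩, z, hz, he⟩ := hxm
      have hz1 : z = 1 := not_subset_of_orderOf hpq hP hg hz (by
        rw [eq_inv_mul_of_mul_eq he]; exact mul_mem (inv_mem y'.2) x.2)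
      rw [hz1] at he
      simp only [mul_one, Subgroup.coe_subtype] at he
      rwa [← Subtype.ext he]
    have := key L' (hP.to_le (map_subtype_le L)) g (mem_zpowers g) hgn hne'' k ⟨k, hk, rfl⟩
    exact Subtype.ext (by rw [MulAut.conjNormal_apply]; exact this)

/-- An extension by a Schmidt automorphism is minimal non-`p`-nilpotent. -/
theorem minimal_of_data (hpq : p ≠ q) (hr : 1 ≤ r) {P : Subgroup X} [hPn : P.Normal]
    (hP : IsPGroup p P) {g : X} (htop : P ⊔ zpowers g = ⊤)
    (hg : orderOf g = q ^ r) (D : Data p q (MulAut.conjNormal g : MulAut P)) :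
    ¬ Cfsg.HasNormalPComplement p X ∧
      ∀ K : Subgroup X, K ≠ ⊤ → Cfsg.HasNormalPComplement p K := by
  have hgp : ∀ h : X, h ∈ zpowers g → (orderOf h).Coprime p := fun h hh =>
    Nat.Coprime.coprime_dvd_left (hg ▸ orderOf_dvd_of_mem_zpowers hh)
      (Nat.Coprime.pow_left r ((Nat.coprime_primes hq.out hp.out).2 hpq.symm))
  constructor
  · intro h
    rw [CfsgLib.Transfer.hasNormalPComplement_iff_frobenius] at h
    refine D.ntriv (MulEquiv.ext fun x => Subtype.ext ?_)
    have h1 := mem_centralizer_iff.1 (h P hP g (by rw [normalizer_eq_top]; exact mem_top _)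
      (hgp g (mem_zpowers g))) x x.2
    rw [MulAut.conjNormal_apply, MulAut.one_apply, ← h1, mul_inv_cancel_right]
  intro K hK
  rw [CfsgLib.Transfer.hasNormalPComplement_iff_frobenius]
  intro E hE h hhn hhp
  rw [mem_centralizer_iff]
  intro e he
  refine Subtype.ext ?_
  show (e : X) * h = h * e
  -- move `h` into the cyclic complement
  obtain ⟨d, hd⟩ := IsPGroup.iff_card.1 hP
  have hcomp : IsComplement' P (zpowers g) := isComplement'_of_disjoint_and_mul_eq_univ
    (disjoint_of_coprime_natCard (by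
      rw [hd, Nat.card_zpowers, hg]
      exact Nat.Coprime.pow d r ((Nat.coprime_primes hp.out hq.out).2 hpq)))
    (by rw [← normal_mul, htop, coe_top])
  have hmul := hcomp.card_mul_card
  rw [hd, Nat.card_zpowers, hg] at hmul
  have hidx : ¬ q ∣ (zpowers g).index := by
    rw [hcomp.index_eq_card, hd]
    exact fun h => hpq.symm ((Nat.prime_dvd_prime_iff_eq hq.out hp.out).1 (hq.out.dvd_of_dvd_pow h))
  let S : Sylow q X := (IsPGroup.of_card (n := r) (by rw [Nat.card_zpowers, hg]) :
    IsPGroup q (zpowers g)).toSylow hidx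
  have hhp' : (orderOf (h : X)).Coprime p := by rw [Subgroup.orderOf_coe]; exact hhp
  have hhq : IsPGroup q (zpowers (h : X)) := by
    have h1 : orderOf (h : X) ∣ q ^ r := (hhp'.pow_right d).dvd_of_dvd_mul_left
      (hmul ▸ orderOf_dvd_natCard (h : X))
    obtain ⟨s, -, hs⟩ := (Nat.dvd_prime_pow hq.out).1 h1
    exact IsPGroup.of_card (n := s) (by rw [Nat.card_zpowers, hs])
  obtain ⟨T, hT⟩ := hhq.exists_le_sylow
  obtain ⟨c, hc⟩ := MulAction.exists_smul_eq X T S
  have hmem : c * (h : X) * c⁻¹ ∈ zpowers g := by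
    have h1 : MulAut.conj c • (h : X) ∈ ((c • T : Sylow q X) : Subgroup X) := by
      rw [Sylow.coe_subgroup_smul]
      exact Subgroup.smul_mem_pointwise_smul _ _ _ (hT (mem_zpowers _))
    rw [hc] at h1
    have h2 : c * (h : X) * c⁻¹ ∈ (S : Subgroup X) := by simpa using h1
    exact h2
  obtain ⟨m, hm⟩ := mem_zpowers_iff.1 hmem
  set σ := (MulAut.conjNormal g : MulAut P) with hσ
  -- conjugate data
  let E' : Subgroup X := (E.map K.subtype).map (MulAut.conj c).toMonoidHom
  have hE' : IsPGroup p E' := (hE.map _).map _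
  have hE'P : E' ≤ P := by
    intro x hx
    obtain ⟨y, hy, z, hz, rfl⟩ := mem_sup_of_normal_left.1 (htop.ge (mem_top x))
    obtain ⟨k, hk⟩ := hE' ⟨y * z, hx⟩
    have hk' : (y * z) ^ p ^ k = 1 := congrArg Subtype.val hk
    have h1 : z ^ p ^ k ∈ P := by
      have h2 : QuotientGroup.mk' P ((y * z) ^ p ^ k) = QuotientGroup.mk' P (z ^ p ^ k) := by
        simp only [map_pow, map_mul]
        rw [show QuotientGroup.mk' P y = 1 from (QuotientGroup.eq_one_iff y).2 hy, one_mul]
      rw [hk', map_one] at h2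
      exact (QuotientGroup.eq_one_iff _).1 h2.symm
    have h3 := not_subset_of_orderOf hpq hP hg (pow_mem hz _) h1
    have h4 : z = 1 := orderOf_eq_one_iff.1 (Nat.eq_one_of_dvd_coprimes
      ((hgp z hz).pow_right k) dvd_rfl (orderOf_dvd_of_pow_eq_one h3))
    rw [h4, mul_one]; exact hy
  have heE : c * e * c⁻¹ ∈ E' := ⟨e, ⟨e, he, rfl⟩, by simp⟩
  rcases eq_or_ne (m % (q : ℤ)) 0 with hm0 | hm0
  · -- a power of `g ^ q` centralises `P`
    obtain ⟨i, rfl⟩ := Int.dvd_of_emod_eq_zero hm0
    have h1 : (σ ^ ((q : ℤ) * i)) ⟨_, hE'P heE⟩ = ⟨_, hE'P heE⟩ := by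
      rw [zpow_mul, zpow_natCast, D.pow, one_zpow]; rfl
    have h2 := congrArg Subtype.val h1
    rw [hσ, ← map_zpow, MulAut.conjNormal_apply, hm] at h2
    simp only at h2
    calc (e : X) * h = c⁻¹ * (c * e * c⁻¹) * (c * h * c⁻¹) * c := by group
      _ = c⁻¹ * (c * h * c⁻¹ * (c * e * c⁻¹) * (c * h * c⁻¹)⁻¹) * (c * h * c⁻¹) * c := by rw [h2]
      _ = h * e := by group
  · -- `h` generates the quotient
    have hcop : IsCoprime m (q : ℤ) := by
      refine (Int.isCoprime_iff_gcd_eq_one).2 ?_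
      rcases (Nat.dvd_prime hq.out).1 (Int.natCast_dvd_natCast.1
        (Int.gcd_dvd_right m (q : ℤ))) with h1 | h1
      · exact h1
      · have h3 := Int.gcd_dvd_left m (q : ℤ)
        rw [h1] at h3
        exact absurd (Int.emod_eq_zero_of_dvd h3) hm0
    obtain ⟨u, v, huv⟩ := hcop
    let E2 : Subgroup P := E'.subgroupOf P
    have hinv : ∀ x ∈ E2, (σ ^ m) x ∈ E2 := by
      intro x hx
      obtain ⟨_, ⟨y, hy, rfl⟩, hyx⟩ := (show (x : X) ∈ E' from hx)
      show ((σ ^ m) x : X) ∈ E'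
      rw [hσ, ← map_zpow, MulAut.conjNormal_apply, hm, ← hyx]
      exact ⟨h * y * (h : K)⁻¹, ⟨h * y * h⁻¹, (mem_normalizer_iff.1 hhn y).1 hy, rfl⟩, by
        simp [mul_assoc]⟩
    have hmap : E2.map σ.toMonoidHom = E2 := by
      have h1 : ∀ (j : ℤ) (x : P), x ∈ E2 → ((σ ^ m) ^ j) x ∈ E2 := by
        have hm1 : ∀ x ∈ E2, (σ ^ m)⁻¹ x ∈ E2 := by
          intro x hx
          obtain ⟨y, hy, rfl⟩ := (CfsgLib.Invol.SchmidtSylow.map_eq_of_mem hinv).ge hx
          simpa using hy
        intro j x hx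
        induction j using Int.induction_on with
        | zero => simpa using hx
        | succ j ih => rw [add_comm, zpow_one_add, MulAut.mul_apply]; exact hinv _ ih
        | pred j ih =>
          rw [sub_eq_neg_add, zpow_add, zpow_neg_one, MulAut.mul_apply]; exact hm1 _ ih
      refine CfsgLib.Invol.SchmidtSylow.map_eq_of_mem fun x hx => ?_
      have h2 : σ = (σ ^ m) ^ u := by
        conv_lhs => rw [← zpow_one σ, ← huv, zpow_add, mul_comm v, zpow_mul σ (q : ℤ), zpow_natCast,
          D.pow, one_zpow, mul_one, mul_comm u, zpow_mul]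
      rw [h2]
      exact h1 u x hx
    have hne2 : E2 ≠ ⊤ := by
      intro ht
      apply hK
      have hPK : ∀ x ∈ P, c⁻¹ * x * c ∈ K := by
        intro x hx
        obtain ⟨_, ⟨y, hy, rfl⟩, hyx⟩ := (show (⟨x, hx⟩ : P) ∈ E2 from ht.ge (mem_top _))
        simp only [MulEquiv.coe_toMonoidHom, MulAut.conj_apply, Subgroup.coe_subtype] at hyx
        rw [← hyx]
        simp [mul_assoc]
      have hPK' : P ≤ K := fun x hx => by
        have := hPK (c * x * c⁻¹) (hPn.conj_mem x hx c)
        simpa [mul_assoc] using this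
      refine eq_top_iff.2 (htop ▸ sup_le hPK' (zpowers_le.2 ?_))
      -- `g` is a power of the conjugate of `h` modulo `P`
      have hgm : g = (g ^ m) ^ u * (g ^ (q : ℤ)) ^ v := by
        rw [← zpow_mul, ← zpow_mul, ← zpow_add, mul_comm m u, mul_comm (q : ℤ) v, huv, zpow_one]
      have hgmK : ∃ z ∈ K, z⁻¹ * g ^ m ∈ P := by
        refine ⟨h, h.2, ?_⟩
        rw [hm]
        have h5 : QuotientGroup.mk' P ((h : X)⁻¹ * (c * h * c⁻¹)) = 1 := by
          obtain ⟨y, hy, z, hz, hyz⟩ := mem_sup_of_normal_left.1 (htop.ge (mem_top c))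
          have hcomm : Commute (QuotientGroup.mk' P c) (QuotientGroup.mk' P (h : X)) := by
            have hz' : ∀ w : X, ∃ j : ℤ, QuotientGroup.mk' P w = QuotientGroup.mk' P g ^ j := by
              intro w
              obtain ⟨a, ha, b, hb, rfl⟩ := mem_sup_of_normal_left.1 (htop.ge (mem_top w))
              obtain ⟨j, rfl⟩ := mem_zpowers_iff.1 hb
              exact ⟨j, by rw [map_mul, show QuotientGroup.mk' P a = 1 from
                (QuotientGroup.eq_one_iff a).2 ha, one_mul, map_zpow]⟩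
            obtain ⟨i, hi⟩ := hz' c
            obtain ⟨j, hj⟩ := hz' h
            rw [hi, hj]
            exact (Commute.refl _).zpow_zpow i j
          simp only [map_mul, map_inv]
          rw [hcomm.eq, mul_inv_cancel_right, inv_mul_cancel]
        exact (QuotientGroup.eq_one_iff _).1 h5
      have hgmK' : g ^ m ∈ K := by
        obtain ⟨z, hz, hzP⟩ := hgmK
        simpa using mul_mem hz (hPK' hzP)
      have hgqK : g ^ (q : ℤ) ∈ K := by
        -- the `q`-th power is a power of the `m`-th modulo the order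
        have h6 : IsCoprime m ((q : ℤ) ^ r) := IsCoprime.pow_right ⟨u, v, huv⟩
        obtain ⟨u', v', huv'⟩ := h6
        have h7 : g = (g ^ m) ^ u' := by
          conv_lhs => rw [← zpow_one g, ← huv', zpow_add, mul_comm v', zpow_mul g ((q : ℤ) ^ r),
            ← Nat.cast_pow, zpow_natCast, ← hg, pow_orderOf_eq_one, one_zpow, mul_one, mul_comm u',
            zpow_mul]
        exact zpow_mem (h7 ▸ zpow_mem hgmK' u') _
      rw [hgm]
      exact mul_mem (zpow_mem hgmK' u) (zpow_mem hgqK v)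
    have hfix := D.fixed E2 hmap hne2 ⟨_, hE'P heE⟩ heE
    have hzp : ∀ j : ℤ, (σ ^ j) ⟨_, hE'P heE⟩ = ⟨_, hE'P heE⟩ := by
      intro j
      induction j using Int.induction_on with
      | zero => simp
      | succ j ih => rw [zpow_add_one, MulAut.mul_apply, hfix, ih]
      | pred j ih =>
        rw [zpow_sub_one, MulAut.mul_apply]
        conv_lhs => arg 2; arg 2; rw [← hfix]
        simpa using ih
    have h2 := congrArg Subtype.val (hzp m)
    rw [hσ, ← map_zpow, MulAut.conjNormal_apply, hm] at h2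
    simp only at h2
    calc (e : X) * h = c⁻¹ * (c * e * c⁻¹) * (c * h * c⁻¹) * c := by group
      _ = c⁻¹ * (c * h * c⁻¹ * (c * e * c⁻¹) * (c * h * c⁻¹)⁻¹) * (c * h * c⁻¹) * c := by rw [h2]
      _ = h * e := by group

end CfsgLib.Schmidt
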