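import Cfsg.Agent.Lib.Schmidt.Structure
import Cfsg.Agent.Lib.Schmidt.FieldFacts

/-!
# The universal `p`-groups with a Schmidt automorphism
-/

set_option autoImplicit false

namespace CfsgLib.Schmidt

open Polynomial Subgroup
open scoped commutatorElement
open CfsgLib.Invol.SchmidtSylow (Data)

universe u

variable {K : Type u} [Field K]

/-- The group of pairs `(x, y)` with `y + σ y = x σ x`. -/
@[ext] structure UPair (σ : K →+* K) : Type u where
  x : K
  y : K
  rel : y + σ y = x * σ x

/-- An involutive endomorphism. -/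
class InvolEnd (σ : K →+* K) : Prop where
  invol : ∀ x, σ (σ x) = x

variable (σ : K →+* K) [hs : InvolEnd σ]

instance : One (UPair σ) := ⟨⟨0, 0, by simp⟩⟩

instance : Mul (UPair σ) := ⟨fun g h => ⟨g.x + h.x, g.y + h.y + σ g.x * h.x, by
  simp only [map_add, map_mul, hs.invol]
  linear_combination g.rel + h.rel⟩⟩

instance : Inv (UPair σ) := ⟨fun g => ⟨-g.x, σ g.y, by
  simp only [map_neg, hs.invol, neg_mul_neg]
  linear_combination g.rel⟩⟩

omit hs in
@[simp] theorem one_x : (1 : UPair σ).x = 0 := rfl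
omit hs in
@[simp] theorem one_y : (1 : UPair σ).y = 0 := rfl
@[simp] theorem mul_x (g h : UPair σ) : (g * h).x = g.x + h.x := rfl
@[simp] theorem mul_y (g h : UPair σ) : (g * h).y = g.y + h.y + σ g.x * h.x := rfl
@[simp] theorem inv_x (g : UPair σ) : g⁻¹.x = -g.x := rfl
@[simp] theorem inv_y (g : UPair σ) : g⁻¹.y = σ g.y := rfl

instance : Group (UPair σ) where
  mul_assoc a b c := by
    ext
    · simp [add_assoc]
    · simp only [mul_y, mul_x, map_add]; ring
  one_mul a := by ext <;> simp
  mul_one a := by ext <;> simp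
  inv_mul_cancel a := by
    ext
    · simp
    · simp only [mul_y, inv_y, inv_x, one_y, map_neg]
      linear_combination a.rel

omit hs in
theorem injective_pair : Function.Injective fun g : UPair σ => (g.x, g.y) := fun g h e => by
  simp only [Prod.mk.injEq] at e
  exact UPair.ext e.1 e.2

instance [Finite K] : Finite (UPair σ) := Finite.of_injective _ (injective_pair σ)

/-- The first coordinate. -/
def projX : UPair σ →* Multiplicative K :=
  MonoidHom.mk' (fun g => Multiplicative.ofAdd g.x) fun _ _ => rfl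

/-- Multiplication of the first coordinate by an element of norm one. -/
def scaleAut {ω : K} (hω : ω * σ ω = 1) : MulAut (UPair σ) where
  toFun g := ⟨ω * g.x, g.y, by rw [map_mul]; linear_combination g.rel - (g.x * σ g.x) * hω⟩
  invFun g := ⟨σ ω * g.x, g.y, by
    rw [map_mul, hs.invol]; linear_combination g.rel - (g.x * σ g.x) * hω⟩
  left_inv g := by
    ext
    · show σ ω * (ω * g.x) = g.x
      linear_combination g.x * hω
    · rfl
  right_inv g := by
    ext
    · show ω * (σ ω * g.x) = g.x
      linear_combination g.x * hω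
    · rfl
  map_mul' g h := by
    ext
    · exact mul_add ω g.x h.x
    · show g.y + h.y + σ g.x * h.x = g.y + h.y + σ (ω * g.x) * (ω * h.x)
      rw [map_mul]
      linear_combination -(σ g.x * h.x) * hω

@[simp] theorem scaleAut_x {ω : K} (hω : ω * σ ω = 1) (g : UPair σ) :
    (scaleAut σ hω g).x = ω * g.x := rfl
@[simp] theorem scaleAut_y {ω : K} (hω : ω * σ ω = 1) (g : UPair σ) :
    (scaleAut σ hω g).y = g.y := rfl

theorem scaleAut_pow_x {ω : K} (hω : ω * σ ω = 1) (k : ℕ) (g : UPair σ) :
    ((scaleAut σ hω ^ k) g).x = ω ^ k * g.x ∧ ((scaleAut σ hω ^ k) g).y = g.y := by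
  induction k with
  | zero => simp
  | succ k ih =>
    rw [pow_succ', MulAut.mul_apply, scaleAut_x, scaleAut_y, ih.1, pow_succ', mul_assoc]
    exact ⟨rfl, ih.2⟩

omit hs in
theorem card_root_le {N : ℕ} (hN : 1 < N) (c : K) :
    Nat.card {y : K // y ^ N + c * y = 0} ≤ N := by
  classical
  set P : K[X] := X ^ N + C c * X with hP
  have hdeg : P.natDegree = N := by
    rw [hP, natDegree_add_eq_left_of_natDegree_lt, natDegree_pow, natDegree_X, mul_one]
    rw [natDegree_pow, natDegree_X, mul_one]
    exact lt_of_le_of_lt (natDegree_C_mul_le c X) (by rw [natDegree_X]; exact hN)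
  have hP0 : P ≠ 0 := fun h => by rw [h, natDegree_zero] at hdeg; omega
  calc Nat.card {y : K // y ^ N + c * y = 0} ≤ Nat.card (P.roots.toFinset : Set K) :=
        Nat.card_le_card_of_injective (fun y => ⟨y.1, by
          rw [Finset.mem_coe, Multiset.mem_toFinset, mem_roots hP0, IsRoot, hP]
          simpa using y.2⟩) (fun a b h => Subtype.ext (congrArg Subtype.val h :))
    _ = P.roots.toFinset.card := by rw [Nat.card_coe_set_eq, Set.ncard_coe_finset]
    _ ≤ P.natDegree := (Multiset.toFinset_card_le _).trans (card_roots' P)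
    _ = N := hdeg

section Finite

variable [Finite K] {N : ℕ} (hN : 1 < N) (hσ : ∀ x, σ x = x ^ N) (hK : Nat.card K = N * N)
include hN hσ hK

theorem ker_range :
    (AddMonoidHom.id K + σ.toAddMonoidHom).range = (AddMonoidHom.id K - σ.toAddMonoidHom).ker ∧
    (AddMonoidHom.id K - σ.toAddMonoidHom).range = (AddMonoidHom.id K + σ.toAddMonoidHom).ker ∧
    Nat.card (AddMonoidHom.id K + σ.toAddMonoidHom).ker = N ∧
    Nat.card (AddMonoidHom.id K + σ.toAddMonoidHom).range = N := by
  set D1 := AddMonoidHom.id K + σ.toAddMonoidHom with hD1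
  set D2 := AddMonoidHom.id K - σ.toAddMonoidHom with hD2
  have h1 : ∀ y, D1 y = y + σ y := fun y => rfl
  have h2 : ∀ y, D2 y = y - σ y := fun y => rfl
  have hk1 : Nat.card D1.ker ≤ N := by
    refine le_trans (Nat.card_le_card_of_injective
      (fun y => (⟨y.1, ?_⟩ : {y : K // y ^ N + 1 * y = 0})) fun a b h => Subtype.ext (congrArg Subtype.val h :)) (card_root_le hN 1)
    have := AddMonoidHom.mem_ker.1 y.2
    rw [h1, hσ] at this
    rw [one_mul, add_comm]
    exact this
  have hk2 : Nat.card D2.ker ≤ N := by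
    refine le_trans (Nat.card_le_card_of_injective
      (fun y => (⟨y.1, ?_⟩ : {y : K // y ^ N + (-1) * y = 0})) fun a b h => Subtype.ext (congrArg Subtype.val h :)) (card_root_le hN (-1))
    have := AddMonoidHom.mem_ker.1 y.2
    rw [h2, hσ] at this
    linear_combination -this
  have hr1 : D1.range ≤ D2.ker := by
    rintro _ ⟨y, rfl⟩
    rw [AddMonoidHom.mem_ker, h1, h2, map_add, hs.invol]
    ring
  have hr2 : D2.range ≤ D1.ker := by
    rintro _ ⟨y, rfl⟩
    rw [AddMonoidHom.mem_ker, h1, h2, map_sub, hs.invol]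
    ring
  have hc : ∀ D : K →+ K, Nat.card D.ker * Nat.card D.range = N * N := by
    intro D
    rw [← hK, ← AddSubgroup.card_mul_index D.ker, AddSubgroup.index_ker]
  have e1 := hc D1
  have e2 := hc D2
  have l1 := (Nat.card_le_card_of_injective _ (AddSubgroup.inclusion_injective hr1)).trans hk2
  have l2 := (Nat.card_le_card_of_injective _ (AddSubgroup.inclusion_injective hr2)).trans hk1
  have key : ∀ a b : ℕ, a ≤ N → b ≤ N → a * b = N * N → a = N ∧ b = N := by
    intro a b ha hb he
    have hN0 : 0 < N := by omega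
    constructor
    · by_contra h
      have : a * b < N * N := lt_of_le_of_lt (Nat.mul_le_mul_left a hb)
        ((Nat.mul_lt_mul_right hN0).2 (lt_of_le_of_ne ha h))
      omega
    · by_contra h
      have : a * b < N * N := lt_of_le_of_lt (Nat.mul_le_mul_right b ha)
        ((Nat.mul_lt_mul_left hN0).2 (lt_of_le_of_ne hb h))
      omega
  obtain ⟨a1, b1⟩ := key _ _ hk1 l1 e1
  obtain ⟨a2, b2⟩ := key _ _ hk2 l2 e2
  exact ⟨AddSubgroup.eq_of_le_of_card_ge hr1 (by omega), AddSubgroup.eq_of_le_of_card_ge hr2 (by omega),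
    a1, b1⟩

theorem exists_lift (x : K) : ∃ g : UPair σ, g.x = x := by
  have h : x * σ x ∈ (AddMonoidHom.id K - σ.toAddMonoidHom).ker := by
    show x * σ x - σ (x * σ x) = 0
    rw [map_mul, hs.invol]; ring
  rw [← (ker_range σ hN hσ hK).1] at h
  obtain ⟨y, hy⟩ := h
  exact ⟨⟨x, y, hy⟩, rfl⟩

theorem card_upair : Nat.card (UPair σ) = N * N * N := by
  have h1 := card_mul_index (projX σ).ker
  rw [index_ker] at h1
  rw [← h1]
  have hr : (projX σ).range = ⊤ := MonoidHom.range_eq_top.2 fun x => by
    obtain ⟨g, hg⟩ := exists_lift σ hN hσ hK (Multiplicative.toAdd x)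
    exact ⟨g, congrArg Multiplicative.ofAdd hg⟩
  rw [hr, Subgroup.card_top, show Nat.card (Multiplicative K) = Nat.card K from rfl, hK]
  have e : (projX σ).ker ≃ (AddMonoidHom.id K + σ.toAddMonoidHom).ker :=
    { toFun := fun g => ⟨g.1.y, by
        have hx : g.1.x = 0 := g.2
        show g.1.y + σ g.1.y = 0
        rw [g.1.rel, hx, zero_mul]⟩
      invFun := fun y => ⟨⟨0, y.1, by rw [zero_mul]; exact y.2⟩, rfl⟩
      left_inv := fun g => Subtype.ext (UPair.ext (show (0 : K) = g.1.x from (show g.1.x = 0 from g.2).symm) rfl)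
      right_inv := fun y => rfl }
  rw [Nat.card_congr e, (ker_range σ hN hσ hK).2.2.1]
  ring

theorem eq_top_of_proj {L : Subgroup (UPair σ)} (hL : ∀ x : K, ∃ g ∈ L, g.x = x) : L = ⊤ := by
  have hker : ∀ g : UPair σ, g.x = 0 → g ∈ L := by
    intro g hg
    have h : g.y ∈ (AddMonoidHom.id K + σ.toAddMonoidHom).ker := by
      show g.y + σ g.y = 0
      rw [g.rel, hg, zero_mul]
    rw [← (ker_range σ hN hσ hK).2.1] at h
    obtain ⟨u, hu⟩ := h
    obtain ⟨b, hbL, hb⟩ := hL u
    obtain ⟨c, hcL, hc⟩ := hL 1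
    have e : g = (b * c)⁻¹ * (c * b) := by
      ext
      · simp only [mul_x, inv_x, hg]; ring
      · have hu' : u - σ u = g.y := hu
        simp only [mul_y, inv_y, mul_x, inv_x, map_add, map_mul, map_neg, hs.invol, hb, hc, map_one]
        have hbr := b.rel
        have hcr := c.rel
        rw [hb] at hbr
        rw [hc, map_one] at hcr
        linear_combination -hu' - hbr - hcr
    rw [e]
    exact mul_mem (inv_mem (mul_mem hbL hcL)) (mul_mem hcL hbL)
  refine eq_top_iff.2 fun g _ => ?_
  obtain ⟨b, hbL, hb⟩ := hL g.x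
  have := mul_mem hbL (hker (b⁻¹ * g) (by rw [mul_x, inv_x, hb, neg_add_cancel]))
  rwa [mul_inv_cancel_left] at this

end Finite

end CfsgLib.Schmidt
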