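import Cfsg.Agent.Lib.Schmidt.Model

/-!
# Existence of the universal Schmidt `p`-group
-/

set_option autoImplicit false

namespace CfsgLib.Schmidt

open Polynomial Subgroup
open CfsgLib.Invol.SchmidtSylow (Data)

universe u

variable {p q : ℕ} [hp : Fact p.Prime] [hq : Fact q.Prime]
variable {K : Type u} [Field K] [Finite K] [Algebra (ZMod p) K] {ω : K}

omit [Finite K] in
theorem rel_eq_aeval {P : Type*} [Group P] (φ : MulAut P) (π : P →* Multiplicative K)
    (hπ : ∀ (i : ℕ) x, π ((φ ^ i) x) = Multiplicative.ofAdd (ω ^ i * Multiplicative.toAdd (π x)))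
    {a : ℕ} (hdeg : (minpoly (ZMod p) ω).natDegree = a) (x : P) :
    π (rel φ (coeffNat (minpoly (ZMod p) ω)) (a + 1) x) = 1 := by
  rw [hom_rel]
  apply Multiplicative.toAdd.injective
  rw [toAdd_prod, toAdd_one]
  have h := congrArg (fun t => t * Multiplicative.toAdd (π x)) (minpoly.aeval (ZMod p) ω)
  simp only [zero_mul, aeval_eq_sum_range, hdeg, Finset.sum_mul, smul_mul_assoc] at h
  refine Eq.trans (Finset.sum_congr rfl fun i _ => ?_) h
  rw [toAdd_pow, hπ, toAdd_ofAdd, coeffNat, ← Nat.cast_smul_eq_nsmul (ZMod p), ZMod.natCast_zmod_val]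

theorem data_additive {a : ℕ} (hpq : p ≠ q) (hω : IsPrimitiveRoot ω q)
    (hK : Nat.card K = p ^ a) (hdeg : (minpoly (ZMod p) ω).natDegree = a) :
    ∃ (P : Type u) (_ : Group P) (_ : Finite P) (φ : MulAut P), Data p q φ ∧ Nat.card P = p ^ a ∧
      ∀ w, rel φ (coeffNat (minpoly (ZMod p) ω)) (a + 1) w ∈ fixedSubgroup φ := by
  have hω0 : ω ≠ 0 := hω.ne_zero hq.out.ne_zero
  let φ : MulAut (Multiplicative K) := AddEquiv.toMultiplicative
    { toFun := fun x => ω * x
      invFun := fun x => ω⁻¹ * x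
      left_inv := fun x => inv_mul_cancel_left₀ hω0 x
      right_inv := fun x => mul_inv_cancel_left₀ hω0 x
      map_add' := fun x y => mul_add ω x y }
  have hφ : ∀ x : Multiplicative K, φ x = Multiplicative.ofAdd (ω * Multiplicative.toAdd x) := fun x => rfl
  have hpow : ∀ (i : ℕ) (x : Multiplicative K),
      (φ ^ i) x = Multiplicative.ofAdd (ω ^ i * Multiplicative.toAdd x) := by
    intro i x
    induction i with
    | zero => simp
    | succ i ih => rw [pow_succ', MulAut.mul_apply, ih, hφ, pow_succ', mul_assoc, toAdd_ofAdd]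
  refine ⟨Multiplicative K, inferInstance, inferInstance, φ, ⟨IsPGroup.of_card (n := a) hK, hq.out,
    hpq.symm, MulEquiv.ext fun x => ?_, fun h => ?_, fun L hL hne k hk => ?_⟩, hK, fun w => ?_⟩
  · rw [hpow, hω.pow_eq_one, one_mul, ofAdd_toAdd, MulAut.one_apply]
  · have h1 := congrArg (fun f : MulAut (Multiplicative K) => f (Multiplicative.ofAdd 1)) h
    simp only [MulAut.one_apply, hφ, toAdd_ofAdd, mul_one] at h1
    exact hω.ne_one hq.out.one_lt (Multiplicative.ofAdd.injective h1)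
  · rcases addSubgroup_eq_bot_or_top (ω := ω) (hdeg.trans (finrank_eq hK).symm)
      (Subgroup.toAddSubgroup' L) (fun x hx =>
        hL.le ⟨Multiplicative.ofAdd x, hx, rfl⟩) with h | h
    · have hk0 : Multiplicative.toAdd k = 0 := by
        have : Multiplicative.toAdd k ∈ (⊥ : AddSubgroup K) := h ▸ hk
        exact this
      rw [show k = 1 from Multiplicative.toAdd.injective hk0, map_one]
    · exact absurd (eq_top_iff.2 fun x _ => h.ge (AddSubgroup.mem_top (Multiplicative.toAdd x))) hne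
  · have h1 := rel_eq_aeval φ (MonoidHom.id _) (fun i x => hpow i x) hdeg w
    show φ _ = _
    rw [show rel φ (coeffNat (minpoly (ZMod p) ω)) (a + 1) w = 1 from h1]
    exact map_one φ

theorem data_unitary {a n : ℕ} (hn : a = 2 * n) (hn0 : 0 < n) (hpq : p ≠ q)
    (hω : IsPrimitiveRoot ω q) (hK : Nat.card K = p ^ a)
    (hdeg : (minpoly (ZMod p) ω).natDegree = a) (hω1 : ω ^ (p ^ n + 1) = 1) :
    ∃ (P : Type u) (_ : Group P) (_ : Finite P) (φ : MulAut P), Data p q φ ∧
      Nat.card P = p ^ (a + a / 2) ∧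
      ∀ w, rel φ (coeffNat (minpoly (ZMod p) ω)) (a + 1) w ∈ fixedSubgroup φ := by
  haveI : CharP K p := charP_of_injective_algebraMap (algebraMap (ZMod p) K).injective p
  haveI : ExpChar K p := ExpChar.prime hp.out
  let σ : K →+* K := iterateFrobenius K p n
  have hσ : ∀ x, σ x = x ^ p ^ n := fun x => iterateFrobenius_def p n x
  have hK' : Nat.card K = p ^ n * p ^ n := by rw [hK, hn, two_mul, pow_add]
  haveI : InvolEnd σ := ⟨fun x => by
    haveI : Fintype K := Fintype.ofFinite K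
    rw [hσ, hσ, ← pow_mul, ← hK', Nat.card_eq_fintype_card, FiniteField.pow_card]⟩
  have hnorm : ω * σ ω = 1 := by rw [hσ, ← pow_succ', hω1]
  have hN : 1 < p ^ n := Nat.one_lt_pow hn0.ne' hp.out.one_lt
  have hcard := card_upair σ hN hσ hK'
  have hcard' : Nat.card (UPair σ) = p ^ (a + a / 2) := by
    rw [hcard, ← pow_add, ← pow_add]
    congr 1
    omega
  set φ := scaleAut σ hnorm with hφdef
  have hfix : ∀ g : UPair σ, g.x = 0 → φ g = g := fun g hg => by
    ext
    · rw [hφdef, scaleAut_x, hg, mul_zero]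
    · rfl
  refine ⟨UPair σ, inferInstance, inferInstance, φ, ⟨IsPGroup.of_card hcard', hq.out, hpq.symm,
    MulEquiv.ext fun g => ?_, fun h => ?_, fun L hL hne k hk => ?_⟩, hcard', fun w => ?_⟩
  · ext
    · rw [hφdef, (scaleAut_pow_x σ hnorm q g).1, hω.pow_eq_one, one_mul]; rfl
    · rw [hφdef, (scaleAut_pow_x σ hnorm q g).2]; rfl
  · obtain ⟨g, hg⟩ := exists_lift σ hN hσ hK' 1
    have h1 := congrArg UPair.x (congrArg (fun f : MulAut (UPair σ) => f g) h)
    simp only [hφdef, MulAut.one_apply, scaleAut_x, hg, mul_one] at h1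
    exact hω.ne_one hq.out.one_lt h1
  · let A : AddSubgroup K := Subgroup.toAddSubgroup' (L.map (projX σ))
    have hAmem : ∀ x, x ∈ A ↔ ∃ g ∈ L, g.x = x := fun x => Iff.rfl
    rcases addSubgroup_eq_bot_or_top (ω := ω) (hdeg.trans (finrank_eq hK).symm) A (fun x hx => by
        obtain ⟨g, hg, rfl⟩ := (hAmem x).1 hx
        exact (hAmem _).2 ⟨φ g, hL.le ⟨g, hg, rfl⟩, rfl⟩) with h | h
    · refine hfix k ?_
      have : k.x ∈ (⊥ : AddSubgroup K) := h ▸ (hAmem _).2 ⟨k, hk, rfl⟩
      exact this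
    · exact absurd (eq_top_of_proj σ hN hσ hK' fun x => (hAmem x).1 (h.ge (AddSubgroup.mem_top x))) hne
  · refine hfix _ ?_
    have h1 := rel_eq_aeval φ (projX σ) (fun i g => by
      show Multiplicative.ofAdd ((φ ^ i) g).x = _
      rw [hφdef, (scaleAut_pow_x σ hnorm i g).1]; rfl) hdeg w
    exact Multiplicative.ofAdd.injective h1

end CfsgLib.Schmidt
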