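import Mathlib

/-!
# Linear recurrences whose characteristic polynomial is a minimal polynomial

A sequence in an `F_p`-module satisfying the recurrence of the minimal polynomial of a generator `ω` of a
finite field is the image of the powers of `ω` under a linear map.
-/

set_option autoImplicit false

namespace CfsgLib.Schmidt

open Polynomial

variable {p : ℕ} [Fact p.Prime] {K : Type*} [Field K] [Finite K] [Algebra (ZMod p) K] {ω : K}

/-- The powers `ω ^ i`, `i < deg`, span when the minimal polynomial has full degree. -/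
theorem span_pow_eq_top (hdeg : (minpoly (ZMod p) ω).natDegree = Module.finrank (ZMod p) K) :
    Submodule.span (ZMod p)
      (Set.range fun i : Fin (minpoly (ZMod p) ω).natDegree => ω ^ (i : ℕ)) = ⊤ :=
  (linearIndependent_pow ω).span_eq_top_of_card_eq_finrank' (by rw [Fintype.card_fin, hdeg])

theorem aeval_surjective (hdeg : (minpoly (ZMod p) ω).natDegree = Module.finrank (ZMod p) K) :
    Function.Surjective (aeval ω : (ZMod p)[X] →ₐ[ZMod p] K).toLinearMap := by
  rw [← LinearMap.range_eq_top, eq_top_iff, ← span_pow_eq_top hdeg, Submodule.span_le]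
  rintro _ ⟨i, rfl⟩
  exact ⟨X ^ (i : ℕ), by simp⟩

theorem exists_linearMap_of_recurrence
    (hdeg : (minpoly (ZMod p) ω).natDegree = Module.finrank (ZMod p) K)
    {M : Type*} [AddCommGroup M] [Module (ZMod p) M] (f : ℕ → M)
    (hrec : ∀ k, ∑ i ∈ Finset.range ((minpoly (ZMod p) ω).natDegree + 1),
      (minpoly (ZMod p) ω).coeff i • f (k + i) = 0) :
    ∃ L : K →ₗ[ZMod p] M, ∀ k, L (ω ^ k) = f k := by
  set m := minpoly (ZMod p) ω with hm
  let F : (ZMod p)[X] →ₗ[ZMod p] M :=
    Polynomial.lsum fun i => LinearMap.toSpanSingleton (ZMod p) M (f i)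
  have hFmon : ∀ (k : ℕ) (c : ZMod p), F (monomial k c) = c • f k := by
    intro k c
    simp [F, Polynomial.lsum, Polynomial.sum_monomial_index]
  have hmul : ∀ h : (ZMod p)[X], F (h * m) = 0 := by
    intro h
    induction h using Polynomial.induction_on' with
    | add a b ha hb => rw [add_mul, map_add, ha, hb, add_zero]
    | monomial k c =>
      conv_lhs => rw [m.as_sum_range, Finset.mul_sum]
      rw [map_sum]
      simp only [monomial_mul_monomial, hFmon, mul_smul, ← Finset.smul_sum, hrec k, smul_zero]
  let π : (ZMod p)[X] →ₗ[ZMod p] K := (aeval ω : (ZMod p)[X] →ₐ[ZMod p] K).toLinearMap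
  have hker : LinearMap.ker π ≤ LinearMap.ker F := by
    intro h hh
    obtain ⟨g, rfl⟩ := minpoly.dvd (ZMod p) ω (show aeval ω h = 0 from hh)
    rw [LinearMap.mem_ker, mul_comm]
    exact hmul g
  let e := π.quotKerEquivOfSurjective (aeval_surjective hdeg)
  refine ⟨((LinearMap.ker π).liftQ F hker).comp e.symm.toLinearMap, fun k => ?_⟩
  have h1 : e.symm (ω ^ k) = Submodule.Quotient.mk (X ^ k) := by
    rw [LinearEquiv.symm_apply_eq]
    simp [e, π, LinearMap.quotKerEquivOfSurjective]
  rw [LinearMap.comp_apply, LinearEquiv.coe_coe, h1, Submodule.liftQ_apply, ← monomial_one_right_eq_X_pow,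
    hFmon, one_smul]

/-- Additive subgroups stable under multiplication by a generator are trivial or everything. -/
theorem addSubgroup_eq_bot_or_top
    (hdeg : (minpoly (ZMod p) ω).natDegree = Module.finrank (ZMod p) K)
    (A : AddSubgroup K) (hA : ∀ x ∈ A, ω * x ∈ A) : A = ⊥ ∨ A = ⊤ := by
  refine or_iff_not_imp_left.2 fun hne => ?_
  obtain ⟨x₀, hx₀, hx0⟩ := A.bot_or_exists_ne_zero.resolve_left hne
  have hall : ∀ h : (ZMod p)[X], ∀ x ∈ A, aeval ω h * x ∈ A := by
    intro h
    induction h using Polynomial.induction_on' with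
    | add a b ha hb => intro x hx; rw [map_add, add_mul]; exact A.add_mem (ha x hx) (hb x hx)
    | monomial k c =>
      intro x hx
      have hk : ∀ n : ℕ, ω ^ n * x ∈ A := by
        intro n
        induction n with
        | zero => simpa using hx
        | succ n ih => rw [pow_succ', mul_assoc]; exact hA _ ih
      rw [aeval_monomial, mul_assoc, ← ZMod.natCast_zmod_val c, map_natCast, ← nsmul_eq_mul]
      exact A.nsmul_mem (hk k) _
  refine eq_top_iff.2 fun z _ => ?_
  obtain ⟨h, hh⟩ := aeval_surjective hdeg (z * x₀⁻¹)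
  have h2 := hall h x₀ hx₀
  rw [show aeval ω h = z * x₀⁻¹ from hh, mul_assoc, inv_mul_cancel₀ hx0, mul_one] at h2
  exact h2

end CfsgLib.Schmidt
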