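import Cfsg.Agent.Lib.Schmidt.Bound
import Cfsg.Agent.Lib.Invol.SchmidtSylow

/-!
# Groups with a Schmidt automorphism: the fixed subgroup, twisting, comparison
-/

set_option autoImplicit false

namespace CfsgLib.Schmidt

open Polynomial Subgroup
open scoped commutatorElement
open CfsgLib.Invol.SchmidtSylow (Data)

variable {P : Type*} [Group P] {p q : ℕ}

/-- The elements fixed by `σ`. -/
def fixedSubgroup (σ : MulAut P) : Subgroup P := σ.toMonoidHom.eqLocus (MonoidHom.id P)

theorem mem_fixedSubgroup {σ : MulAut P} {x : P} : x ∈ fixedSubgroup σ ↔ σ x = x := Iff.rfl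

variable [Finite P] [hp : Fact p.Prime] {σ : MulAut P} (D : Data p q σ)
include D

omit hp in
theorem fixedSubgroup_ne_top : fixedSubgroup σ ≠ ⊤ := fun h =>
  D.ntriv (MulEquiv.ext fun x => h.ge (mem_top x))

omit hp in
theorem le_fixed_or_eq_top {K : Subgroup P} (hK : ∀ x ∈ K, σ x ∈ K) :
    K ≤ fixedSubgroup σ ∨ K = ⊤ :=
  or_iff_not_imp_right.2 fun h x hx => D.fixed K (CfsgLib.Invol.SchmidtSylow.map_eq_of_mem hK) h x hx

theorem commutator_le_fixed : commutator P ≤ fixedSubgroup σ := by
  haveI := CfsgLib.Invol.SchmidtSylow.nontrivial D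
  haveI : Group.IsNilpotent P := D.pg.isNilpotent
  haveI : (commutator P).Characteristic := inferInstance
  exact (le_fixed_or_eq_top D (CfsgLib.Invol.SchmidtSylow.char_mem _)).resolve_right
    (Group.IsSolvable.commutator_lt_top_of_nontrivial P).ne

theorem pow_mem_fixed (x : P) : x ^ p ∈ fixedSubgroup σ := by
  haveI := CfsgLib.Invol.SchmidtSylow.nontrivial D
  haveI : Group.IsNilpotent P := D.pg.isNilpotent
  obtain ⟨M, hM, -⟩ := (eq_top_or_exists_le_coatom (⊥ : Subgroup P)).resolve_left bot_ne_top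
  have hne : frattini P ≠ ⊤ := fun e => hM.1 (top_le_iff.1 (e ▸ frattini_le_coatom hM))
  refine (le_fixed_or_eq_top D (CfsgLib.Invol.SchmidtSylow.char_mem _)).resolve_right hne ?_
  refine (Subgroup.mem_iInf).2 fun M => (Subgroup.mem_iInf).2 fun hM => ?_
  have hi := CfsgLib.ClassK.SubCount.index_of_isCoatom D.pg hM
  haveI : M.Normal := Subgroup.NormalizerCondition.normal_of_coatom M
    Group.normalizerCondition_of_isNilpotent hM
  exact hi ▸ pow_index_mem M x

theorem fixed_le_center : fixedSubgroup σ ≤ center P := by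
  haveI := CfsgLib.Invol.SchmidtSylow.normal_of_commutator_le (commutator_le_fixed D)
  exact CfsgLib.Invol.SchmidtSylow.le_center_of_invariant D
    (fun x hx => by rw [mem_fixedSubgroup.1 hx]; exact hx) (fixedSubgroup_ne_top D)

theorem pack : Pack p σ (fixedSubgroup σ) :=
  ⟨fixed_le_center D, fun a b => commutator_le_fixed D (commutator_mem_commutator (mem_top a) (mem_top b)),
    pow_mem_fixed D, fun _ hz => hz⟩

theorem moved_of_moved {w : P} (hw : σ w ≠ w) : σ (w⁻¹ * σ w) ≠ w⁻¹ * σ w := by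
  intro h
  apply hw
  set c := w⁻¹ * σ w with hc
  have hσw : σ w = w * c := (mul_inv_cancel_left w (σ w)).symm
  have hn : ∀ n : ℕ, (σ ^ n) w = w * c ^ n := by
    intro n
    induction n with
    | zero => simp
    | succ n ih => rw [pow_succ', MulAut.mul_apply, ih, map_mul, map_pow, h, hσw, mul_assoc, ← pow_succ']
  have h1 := hn q
  rw [D.pow, MulAut.one_apply, left_eq_mul] at h1
  obtain ⟨k, hk⟩ := D.pg c
  have h2 : c = 1 := by
    rw [← orderOf_eq_one_iff]
    exact Nat.eq_one_of_dvd_coprimes (Nat.Coprime.pow_left k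
      ((Nat.coprime_primes hp.out D.hq).2 D.ne.symm))
      (orderOf_dvd_of_pow_eq_one hk) (orderOf_dvd_of_pow_eq_one h1)
  rw [hσw, h2, mul_one]

omit D in
/-- On an irreducible module for `T` of order dividing `q` some power of `T` has the minimal polynomial of
a given primitive `q`-th root of unity. -/
theorem exists_pow_aeval_eq_zero {K : Type*} [Field K] [Algebra (ZMod p) K] [Finite K] {ω : K}
    (hω : IsPrimitiveRoot ω q) (hq : q.Prime) {V : Type*} [AddCommGroup V] [Module (ZMod p) V]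
    [Nontrivial V] (T : Module.End (ZMod p) V) (hT : T ^ q = 1) (hT1 : T ≠ 1)
    (hirr : ∀ S : Submodule (ZMod p) V, (∀ x ∈ S, T x ∈ S) → S = ⊥ ∨ S = ⊤) :
    ∃ k, 1 ≤ k ∧ k < q ∧ aeval (T ^ k) (minpoly (ZMod p) ω) = 0 := by
  classical
  have hdich : ∀ h : (ZMod p)[X], aeval T h = 0 ∨ Function.Injective (aeval T h) := by
    intro h
    rcases hirr (LinearMap.ker (aeval T h)) (fun x hx => by
      rw [LinearMap.mem_ker] at hx ⊢
      have e : aeval T h * T = T * aeval T h := by
        simpa using congrArg (aeval T) (mul_comm h X)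
      have := congrArg (fun S : Module.End (ZMod p) V => S x) e
      simp only [Module.End.mul_apply, hx, map_zero] at this
      exact this) with h0 | h0
    · exact Or.inr (LinearMap.ker_eq_bot.1 h0)
    · exact Or.inl (LinearMap.ker_eq_top.1 h0)
  set m := minpoly (ZMod p) ω with hm
  by_contra hcon
  push Not at hcon
  set H : (ZMod p)[X] := (X - 1) * ∏ k ∈ Finset.Ico 1 q, m.comp (X ^ k) with hH
  have hinj : Function.Injective (aeval T H) := by
    have hprod : ∀ s : Finset ℕ, s ⊆ Finset.Ico 1 q →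
        Function.Injective (aeval T (∏ k ∈ s, m.comp (X ^ k))) := by
      intro s
      induction s using Finset.induction with
      | empty => intro _; rw [Finset.prod_empty, map_one]; exact Function.injective_id
      | insert k s hk ih =>
        intro hs
        rw [Finset.prod_insert hk, map_mul, Module.End.coe_mul]
        refine Function.Injective.comp ((hdich _).resolve_left ?_)
          (ih ((Finset.subset_insert k s).trans hs))
        have hk' := Finset.mem_Ico.1 (hs (Finset.mem_insert_self k s))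
        rw [aeval_comp, map_pow, aeval_X]
        exact hcon k hk'.1 hk'.2
    rw [hH, map_mul, Module.End.coe_mul]
    refine Function.Injective.comp ((hdich _).resolve_left ?_) (hprod _ subset_rfl)
    rw [map_sub, aeval_X, map_one, sub_eq_zero]
    exact hT1
  have hdvd : (X : (ZMod p)[X]) ^ q - 1 ∣ H := by
    refine (Polynomial.map_dvd_map (algebraMap (ZMod p) K) (algebraMap (ZMod p) K).injective
      (by simpa using monic_X_pow_sub_C (1 : ZMod p) hq.ne_zero)).1 ?_
    rw [Polynomial.map_sub, Polynomial.map_pow, map_X, Polynomial.map_one,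
      X_pow_sub_one_eq_prod hq.pos hω]
    refine Finset.prod_dvd_of_coprime
      (fun a _ b _ hab => pairwise_coprime_X_sub_C Function.injective_id hab) fun ζ hζ => ?_
    rw [dvd_iff_isRoot, IsRoot, eval_map, ← aeval_def, hH, map_mul]
    have hζq : ζ ^ q = 1 := (mem_nthRootsFinset hq.pos 1).1 hζ
    by_cases hζ1 : ζ = 1
    · rw [map_sub, aeval_X, map_one, sub_eq_zero.2 hζ1, zero_mul]
    · haveI : NeZero q := ⟨hq.ne_zero⟩
      obtain ⟨i, hi, rfl⟩ := hω.eq_pow_of_pow_eq_one hζq
      have hi0 : i ≠ 0 := fun h => hζ1 (by rw [h, pow_zero])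
      have hcop : i.Coprime q := ((Nat.Prime.coprime_iff_not_dvd hq).2
        fun h => absurd (Nat.le_of_dvd (Nat.pos_of_ne_zero hi0) h) (not_le.2 hi)).symm
      obtain ⟨k, hk, hik⟩ := Nat.exists_mul_mod_eq_one_of_coprime hcop hq.one_lt
      refine mul_eq_zero_of_right _ ?_
      rw [map_prod]
      refine Finset.prod_eq_zero (Finset.mem_Ico.2 ⟨Nat.pos_of_ne_zero fun h => by
        rw [h, mul_zero, Nat.zero_mod] at hik; exact zero_ne_one hik, hk⟩) ?_
      rw [aeval_comp, map_pow, aeval_X, ← pow_mul, ← Nat.div_add_mod (i * k) q, hik, pow_add,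
        pow_mul, hω.pow_eq_one, one_pow, one_mul, pow_one]
      exact minpoly.aeval _ _
  obtain ⟨g, hg⟩ := hdvd
  rw [hg, map_mul, map_sub, map_pow, aeval_X, map_one, hT, sub_self, zero_mul] at hinj
  obtain ⟨x, hx⟩ := exists_ne (0 : V)
  exact hx (hinj (by simp))

theorem exists_twist_of_quotient {K : Type*} [Field K] [Algebra (ZMod p) K] [Finite K] {ω : K}
    (hω : IsPrimitiveRoot ω q) {a : ℕ} (hdeg : (minpoly (ZMod p) ω).natDegree = a)
    {A : Type*} [CommGroup A] [Module (ZMod p) (Additive A)] (π : P →* A) (hπs : Function.Surjective π)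
    (hker : ∀ x, π x = 1 ↔ x ∈ fixedSubgroup σ) (τ : A →* A) (hτ : ∀ x, τ (π x) = π (σ x)) :
    ∃ k, 1 ≤ k ∧ k < q ∧
      ∀ w, rel (σ ^ k) (coeffNat (minpoly (ZMod p) ω)) (a + 1) w ∈ fixedSubgroup σ := by
  classical
  set F := fixedSubgroup σ with hF
  let T : Module.End (ZMod p) (Additive A) :=
    (MonoidHom.toAdditive τ).toZModLinearMap p
  let of' : P → Additive A := fun x => Additive.ofMul (π x)
  have hTof : ∀ x, T (of' x) = of' (σ x) := fun x => congrArg Additive.ofMul (hτ x)
  have hpow : ∀ (n : ℕ) x, (T ^ n) (of' x) = of' ((σ ^ n) x) := by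
    intro n x
    induction n with
    | zero => rfl
    | succ n ih => rw [pow_succ', Module.End.mul_apply, ih, hTof, pow_succ', MulAut.mul_apply]
  have hsurj : ∀ v, ∃ x, of' x = v := fun v => by
    obtain ⟨x, hx⟩ := hπs (Additive.toMul v)
    exact ⟨x, congrArg Additive.ofMul hx⟩
  have hzero : ∀ x, of' x = 0 ↔ x ∈ F := fun x =>
    (Additive.ofMul.injective.eq_iff' ofMul_one).trans (hker x)
  obtain ⟨x₀, hx₀⟩ : ∃ x, σ x ≠ x := by
    by_contra h
    push Not at h
    exact D.ntriv (MulEquiv.ext h)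
  haveI : Nontrivial (Additive A) :=
    ⟨⟨of' x₀, 0, fun h => hx₀ ((hzero x₀).1 h)⟩⟩
  obtain ⟨k, hk1, hk, hm⟩ := exists_pow_aeval_eq_zero (p := p) hω D.hq T
    (LinearMap.ext fun v => by
      obtain ⟨x, rfl⟩ := hsurj v
      rw [hpow, D.pow, MulAut.one_apply, Module.End.one_apply])
    (fun h => by
      have h1 := hTof x₀
      rw [h, Module.End.one_apply] at h1
      have h2 : x₀⁻¹ * σ x₀ ∈ F := (hker _).1 (by
        rw [map_mul, map_inv, inv_mul_eq_one]; exact Additive.ofMul.injective h1)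
      exact moved_of_moved D hx₀ h2)
    (fun S hS => by
      let L : Subgroup P :=
        { carrier := {x | of' x ∈ S}
          one_mem' := by simp [of']
          mul_mem' := fun {b c} hb hc => by
            show of' (b * c) ∈ S
            simp only [of', map_mul, ofMul_mul]
            exact S.add_mem hb hc
          inv_mem' := fun {b} hb => by
            show of' b⁻¹ ∈ S
            simp only [of', map_inv, ofMul_inv]
            exact S.neg_mem hb }
      rcases le_fixed_or_eq_top D (K := L) (fun x hx => by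
        show of' (σ x) ∈ S
        rw [← hTof]; exact hS _ hx) with h | h
      · refine Or.inl ((Submodule.eq_bot_iff S).2 fun v hv => ?_)
        obtain ⟨x, rfl⟩ := hsurj v
        exact (hzero x).2 (h hv)
      · refine Or.inr (eq_top_iff.2 fun v _ => ?_)
        obtain ⟨x, rfl⟩ := hsurj v
        exact h.ge (mem_top x))
  refine ⟨k, hk1, hk, fun w => (hker _).1 ?_⟩
  show π _ = 1
  have h1 := congrArg (fun S : Module.End (ZMod p) (Additive A) => S (of' w)) hm
  simp only [LinearMap.zero_apply, aeval_eq_sum_range' (show (minpoly (ZMod p) ω).natDegree < a + 1 by omega),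
    LinearMap.sum_apply, LinearMap.smul_apply] at h1
  rw [hom_rel]
  apply Additive.ofMul.injective
  rw [ofMul_one, ← h1, ofMul_prod]
  refine Finset.sum_congr rfl fun i _ => ?_
  rw [ofMul_pow, coeffNat, ← Nat.cast_smul_eq_nsmul (ZMod p), ZMod.natCast_zmod_val, ← pow_mul,
    ← pow_mul, hpow]


/-- Some power of `σ` satisfies the minimal polynomial of `ω` modulo the fixed subgroup. -/
theorem exists_twist {K : Type*} [Field K] [Algebra (ZMod p) K] [Finite K] {ω : K}
    (hω : IsPrimitiveRoot ω q) {a : ℕ} (hdeg : (minpoly (ZMod p) ω).natDegree = a) :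
    ∃ k, 1 ≤ k ∧ k < q ∧
      ∀ w, rel (σ ^ k) (coeffNat (minpoly (ZMod p) ω)) (a + 1) w ∈ fixedSubgroup σ := by
  classical
  set F := fixedSubgroup σ with hF
  haveI hFn : F.Normal :=
    CfsgLib.Invol.SchmidtSylow.normal_of_commutator_le (commutator_le_fixed D)
  let hC : CommGroup (P ⧸ F) :=
    { (inferInstance : Group (P ⧸ F)) with
      mul_comm := fun x y => by
        induction x using QuotientGroup.induction_on
        induction y using QuotientGroup.induction_on
        rename_i b c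
        rw [← commutatorElement_eq_one_iff_mul_comm]
        exact (QuotientGroup.eq_one_iff _).2
          (commutator_le_fixed D (commutator_mem_commutator (mem_top b) (mem_top c))) }
  let hM : Module (ZMod p) (Additive (P ⧸ F)) := AddCommGroup.zmodModule (n := p) fun e => by
    obtain ⟨b, hb⟩ := QuotientGroup.mk'_surjective F (Additive.toMul e)
    show Additive.ofMul (Additive.toMul e ^ p) = Additive.ofMul 1
    rw [← hb, ← map_pow]
    exact congrArg Additive.ofMul ((QuotientGroup.eq_one_iff _).2 (pow_mem_fixed D b))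
  let π : P →* P ⧸ F := QuotientGroup.mk' F
  let τ : P ⧸ F →* P ⧸ F := QuotientGroup.map F F σ.toMonoidHom
    fun x hx => show σ (σ x) = σ x by rw [show σ x = x from hx, show σ x = x from hx]
  exact exists_twist_of_quotient D hω hdeg (A := P ⧸ F) π (QuotientGroup.mk'_surjective F)
    (fun x => QuotientGroup.eq_one_iff x) τ (fun x => rfl)

omit D in
theorem prodCongr_pow {P' : Type*} [Group P'] (φ : MulAut P') (σ : MulAut P) (n : ℕ) (z : P' × P) :
    ((MulEquiv.prodCongr φ σ : MulAut (P' × P)) ^ n) z = ((φ ^ n) z.1, (σ ^ n) z.2) := by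
  induction n with
  | zero => rfl
  | succ n ih => rw [pow_succ', MulAut.mul_apply, ih, pow_succ', pow_succ']; rfl

/-- Comparison with a group of maximal order. -/
theorem exists_surjection {K : Type*} [Field K] [Algebra (ZMod p) K] [Finite K] {ω : K}
    (hω : ω ^ q = 1) {a : ℕ} (haK : Module.finrank (ZMod p) K = a)
    (hdeg : (minpoly (ZMod p) ω).natDegree = a) (haq : a ≤ q)
    {P₀ : Type*} [Group P₀] [Finite P₀] {φ : MulAut P₀} (D₀ : Data p q φ)
    (hcard : Nat.card P₀ = p ^ (a + a / 2) ∨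
      (Nat.card P₀ = p ^ a ∧ aeval ω⁻¹ (minpoly (ZMod p) ω) ≠ 0))
    (h₀ : ∀ w, rel φ (coeffNat (minpoly (ZMod p) ω)) (a + 1) w ∈ fixedSubgroup φ)
    (h : ∀ w, rel σ (coeffNat (minpoly (ZMod p) ω)) (a + 1) w ∈ fixedSubgroup σ) :
    ∃ f : P₀ →* P, Function.Surjective f ∧ (∀ x, f (φ x) = σ (f x)) ∧
      f.ker ≤ center P₀ ∧ ∀ x ∈ f.ker, φ x = x := by
  classical
  set n := coeffNat (minpoly (ZMod p) ω) with hn
  obtain ⟨w₀, hw₀⟩ : ∃ x, φ x ≠ x := by
    by_contra hc
    push Not at hc
    exact D₀.ntriv (MulEquiv.ext hc)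
  obtain ⟨w₁, hw₁⟩ : ∃ x, σ x ≠ x := by
    by_contra hc
    push Not at hc
    exact D.ntriv (MulEquiv.ext hc)
  let ψ : MulAut (P₀ × P) := MulEquiv.prodCongr φ σ
  let Z : Subgroup (P₀ × P) := (fixedSubgroup φ).prod (fixedSubgroup σ)
  have PK : Pack p ψ Z :=
    { central := fun z hz => mem_center_iff.2 fun g => Prod.ext
        (mem_center_iff.1 (fixed_le_center D₀ hz.1) g.1) (mem_center_iff.1 (fixed_le_center D hz.2) g.2)
      comm := fun b c => ⟨(pack D₀).comm b.1 c.1, (pack D).comm b.2 c.2⟩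
      pow := fun x => ⟨pow_mem_fixed D₀ x.1, pow_mem_fixed D x.2⟩
      fixed := fun z hz => Prod.ext hz.1 hz.2 }
  have hψq : ψ ^ q = 1 := MulEquiv.ext fun z => by
    rw [prodCongr_pow, D₀.pow, D.pow]; rfl
  set w : P₀ × P := (w₀, w₁) with hw
  have hrel : rel ψ n (a + 1) w ∈ Z := by
    refine ⟨?_, ?_⟩
    · show MonoidHom.fst P₀ P (rel ψ n (a + 1) w) ∈ fixedSubgroup φ
      rw [map_rel (φ := φ) _ (fun x => rfl)]
      exact h₀ w₀
    · show MonoidHom.snd P₀ P (rel ψ n (a + 1) w) ∈ fixedSubgroup σ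
      rw [map_rel (φ := σ) _ (fun x => rfl)]
      exact h w₁
  have hb := card_orbit_closure_le (ω := ω) PK hψq hω haK hdeg haq hrel
  set Y := closure (Set.range fun i : ℕ => (ψ ^ i) (w⁻¹ * ψ w)) with hY
  have hYcard : Nat.card Y ≤ Nat.card P₀ := by
    rcases hcard with hc | ⟨hc, hne⟩
    · exact hc ▸ hb.1
    · exact hc ▸ hb.2 hne
  have hYinv : ∀ z ∈ Y, ψ z ∈ Y := by
    have : Y ≤ Y.comap ψ.toMonoidHom := by
      rw [hY, closure_le]
      rintro _ ⟨i, rfl⟩
      refine subset_closure ⟨i + 1, ?_⟩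
      show (ψ ^ (i + 1)) (w⁻¹ * ψ w) = ψ ((ψ ^ i) (w⁻¹ * ψ w))
      rw [pow_succ', MulAut.mul_apply]
    exact fun z hz => this hz
  have hwY : w⁻¹ * ψ w ∈ Y := subset_closure ⟨0, rfl⟩
  let pr₀ : Y →* P₀ := (MonoidHom.fst P₀ P).comp Y.subtype
  let pr : Y →* P := (MonoidHom.snd P₀ P).comp Y.subtype
  have hs₀ : Function.Surjective pr₀ := by
    rw [← MonoidHom.range_eq_top]
    refine (le_fixed_or_eq_top D₀ ?_).resolve_left fun hle => moved_of_moved D₀ hw₀
      (hle ⟨⟨_, hwY⟩, rfl⟩)
    rintro _ ⟨z, rfl⟩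
    exact ⟨⟨_, hYinv z z.2⟩, rfl⟩
  have hs : Function.Surjective pr := by
    rw [← MonoidHom.range_eq_top]
    refine (le_fixed_or_eq_top D ?_).resolve_left fun hle => moved_of_moved D hw₁
      (hle ⟨⟨_, hwY⟩, rfl⟩)
    rintro _ ⟨z, rfl⟩
    exact ⟨⟨_, hYinv z z.2⟩, rfl⟩
  haveI : Fintype Y := Fintype.ofFinite Y
  haveI : Fintype P₀ := Fintype.ofFinite P₀
  have hbij : Function.Bijective pr₀ := (Fintype.bijective_iff_surjective_and_card _).2
    ⟨hs₀, le_antisymm (by simpa [Nat.card_eq_fintype_card] using hYcard)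
      (Fintype.card_le_of_surjective _ hs₀)⟩
  let e : Y ≃* P₀ := MulEquiv.ofBijective pr₀ hbij
  refine ⟨pr.comp e.symm.toMonoidHom, hs.comp e.symm.surjective, fun x => ?_, ?_⟩
  · obtain ⟨z, rfl⟩ := e.surjective x
    show pr (e.symm (φ (e z))) = σ (pr (e.symm (e z)))
    rw [show φ (e z) = e ⟨ψ (z : P₀ × P), hYinv z z.2⟩ from rfl, e.symm_apply_apply,
      e.symm_apply_apply]
    rfl
  set f := pr.comp e.symm.toMonoidHom with hf
  have hequiv : ∀ x, f (φ x) = σ (f x) := by
    intro x
    obtain ⟨z, rfl⟩ := e.surjective x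
    show pr (e.symm (φ (e z))) = σ (pr (e.symm (e z)))
    rw [show φ (e z) = e ⟨ψ (z : P₀ × P), hYinv z z.2⟩ from rfl, e.symm_apply_apply,
      e.symm_apply_apply]
    rfl
  have hkfix : f.ker ≤ fixedSubgroup φ := by
    refine (le_fixed_or_eq_top D₀ fun x hx => ?_).resolve_right fun htop => hw₁ ?_
    · rw [MonoidHom.mem_ker] at hx ⊢
      rw [hequiv, hx, map_one]
    · obtain ⟨x, hx⟩ := (hs.comp e.symm.surjective) w₁
      have h1 : f x = 1 := MonoidHom.mem_ker.1 (htop.ge (mem_top x))
      rw [← hx]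
      show σ (f x) = f x
      rw [h1, map_one]
  exact ⟨hkfix.trans (fixed_le_center D₀), fun x hx => hkfix hx⟩

end CfsgLib.Schmidt
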