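import Cfsg.Agent.Lib.Schmidt.ModelData
import Cfsg.Agent.Lib.Schmidt.Minimal
import Cfsg.Agent.Lib.Invol.SchmidtSylowPLength

/-!
# The universal minimal non-`p`-nilpotent group
-/

set_option autoImplicit false

namespace CfsgLib.Schmidt

open Polynomial Subgroup
open CfsgLib.Invol.SchmidtSylow (Data)

universe u

theorem exists_universal (p q r : ℕ) [hp : Fact p.Prime] [hq : Fact q.Prime] (hpq : p ≠ q) (hr : 1 ≤ r)
    (a a₀ : ℕ) (ha : a = orderOf (p : ZMod q)) (ha₀ : a₀ = if a % 2 = 1 then a else 3 * a / 2) :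
    ∃ (G₀ : Type u) (_ : Group G₀) (_ : Finite G₀),
      (¬ Cfsg.HasNormalPComplement p G₀ ∧
        ∀ K : Subgroup G₀, K ≠ ⊤ → Cfsg.HasNormalPComplement p ↥K) ∧ Nat.card G₀ = p ^ a₀ * q ^ r ∧
      ∀ (X : Type u) [Group X] [Finite X],
        (¬ Cfsg.HasNormalPComplement p X ∧
          ∀ K : Subgroup X, K ≠ ⊤ → Cfsg.HasNormalPComplement p ↥K) →
        (∃ t : ℕ, Nat.card X = p ^ t * q ^ r) →
          ∃ φ : G₀ →* X, Function.Surjective φ ∧ φ.ker ≤ Subgroup.center G₀ := by
  classical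
  have ha1 : 0 < a := ha ▸ orderOf_pos' hpq
  have haq : a ≤ q := (ha ▸ orderOf_lt hpq).le
  let K : Type u := ULift.{u} (GaloisField p a)
  haveI : CharP K p := charP_of_injective_ringHom
    (f := (ULift.ringEquiv (R := GaloisField p a)).symm.toRingHom) (RingEquiv.injective _) p
  letI : Algebra (ZMod p) K := ZMod.algebra K p
  have hK : Nat.card K = p ^ a := by
    rw [Nat.card_congr Equiv.ulift, GaloisField.card p a ha1.ne']
  obtain ⟨ω, hω⟩ := exists_primitiveRoot (K := K) ha hK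
  have hdeg := natDegree_minpoly hω ha hK
  obtain ⟨P₀, _, _, φ, D₀, hcard₀, hrel₀, hbound⟩ :
      ∃ (P₀ : Type u) (_ : Group P₀) (_ : Finite P₀) (φ : MulAut P₀), Data p q φ ∧
        Nat.card P₀ = p ^ a₀ ∧
        (∀ w, rel φ (coeffNat (minpoly (ZMod p) ω)) (a + 1) w ∈ fixedSubgroup φ) ∧
        (Nat.card P₀ = p ^ (a + a / 2) ∨
          (Nat.card P₀ = p ^ a ∧ aeval ω⁻¹ (minpoly (ZMod p) ω) ≠ 0)) := by
    by_cases hodd : a % 2 = 1
    · rw [if_pos hodd] at ha₀
      obtain ⟨P₀, i1, i2, φ, D₀, hc, hr₀⟩ := data_additive hpq hω hK hdeg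
      refine ⟨P₀, i1, i2, φ, D₀, ha₀ ▸ hc, hr₀, ?_⟩
      by_cases hq2 : q = 2
      · have : a < 2 := hq2 ▸ (ha ▸ orderOf_lt hpq)
        left
        rw [hc, show a + a / 2 = a by omega]
      · exact Or.inr ⟨hc, aeval_inv_ne_zero hω ha hK hodd hq2⟩
    · rw [if_neg hodd] at ha₀
      obtain ⟨P₀, i1, i2, φ, D₀, hc, hr₀⟩ := data_unitary (n := a / 2) (by omega) (by omega) hpq hω hK
        hdeg (pow_half_add_one hω ha (by omega) (by omega))
      exact ⟨P₀, i1, i2, φ, D₀, by rw [hc]; congr 1; omega, hr₀, Or.inl hc⟩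
  have hφr : φ ^ q ^ r = 1 := by
    obtain ⟨s, rfl⟩ := Nat.exists_eq_add_of_le hr
    rw [pow_add, pow_one, pow_mul, D₀.pow, one_pow]
  let F : ℤ →+ Additive (MulAut P₀) := zmultiplesHom _ (Additive.ofMul φ)
  have hF : F ((q ^ r : ℕ) : ℤ) = 0 := by
    show ((q ^ r : ℕ) : ℤ) • Additive.ofMul φ = 0
    rw [natCast_zsmul, ← ofMul_pow, hφr, ofMul_one]
  let act : Multiplicative (ZMod (q ^ r)) →* MulAut P₀ :=
    AddMonoidHom.toMultiplicativeLeft (ZMod.lift (q ^ r) ⟨F, hF⟩)
  haveI : NeZero (q ^ r) := ⟨pow_ne_zero _ hq.out.ne_zero⟩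
  let G₀ : Type u := P₀ ⋊[act] Multiplicative (ZMod (q ^ r))
  let one' : Multiplicative (ZMod (q ^ r)) := Multiplicative.ofAdd 1
  have hact : act one' = φ := by
    show Additive.toMul (ZMod.lift (q ^ r) ⟨F, hF⟩ (1 : ZMod (q ^ r))) = φ
    rw [← Int.cast_one, ZMod.lift_coe]
    show Additive.toMul ((1 : ℤ) • Additive.ofMul φ) = φ
    rw [one_zsmul, toMul_ofMul]
  have hgen : ∀ c : Multiplicative (ZMod (q ^ r)), ∃ n : ℕ, one' ^ n = c := fun c =>
    ⟨(Multiplicative.toAdd c).val, by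
      rw [← ofAdd_nsmul, nsmul_one, ZMod.natCast_zmod_val, ofAdd_toAdd]⟩
  let inl' : P₀ →* G₀ := SemidirectProduct.inl
  let inr' : Multiplicative (ZMod (q ^ r)) →* G₀ := SemidirectProduct.inr
  set g₀ : G₀ := inr' one' with hg₀
  haveI hPn : inl'.range.Normal := by
    show (SemidirectProduct.inl : P₀ →* P₀ ⋊[act] Multiplicative (ZMod (q ^ r))).range.Normal
    rw [SemidirectProduct.range_inl_eq_ker_rightHom]
    infer_instance
  have hinl : Function.Injective inl' := SemidirectProduct.inl_injective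
  have hdec : ∀ x : G₀, ∃ y n, x = inl' y * g₀ ^ (n : ℕ) := by
    intro x
    obtain ⟨n, hn⟩ := hgen x.right
    refine ⟨x.left, n, ?_⟩
    rw [hg₀, ← map_pow, hn]
    exact (SemidirectProduct.inl_left_mul_inr_right x).symm
  have hconj : ∀ y, g₀ * inl' y * g₀⁻¹ = inl' (φ y) := by
    intro y
    rw [← hact, hg₀, ← map_inv]
    exact (SemidirectProduct.inl_aut one' y).symm
  have hord : orderOf g₀ = q ^ r := by
    rw [hg₀, orderOf_injective inr' SemidirectProduct.inr_injective, orderOf_ofAdd_eq_addOrderOf,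
      ZMod.addOrderOf_one]
  have hcardG : Nat.card G₀ = p ^ a₀ * q ^ r := by
    show Nat.card (P₀ ⋊[act] Multiplicative (ZMod (q ^ r))) = _
    rw [SemidirectProduct.card, hcard₀,
      show Nat.card (Multiplicative (ZMod (q ^ r))) = Nat.card (ZMod (q ^ r)) from rfl, Nat.card_zmod]
  haveI : Finite G₀ := Nat.finite_of_card_ne_zero (by
    rw [hcardG]; exact mul_ne_zero (pow_ne_zero _ hp.out.ne_zero) (pow_ne_zero _ hq.out.ne_zero))
  refine ⟨G₀, inferInstance, inferInstance, ?_, hcardG, ?_⟩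
  · refine minimal_of_data hpq hr (P := inl'.range)
      (D₀.pg.of_equiv (MonoidHom.ofInjective hinl)) (g := g₀) ?_ hord ?_
    · refine eq_top_iff.2 fun x _ => ?_
      obtain ⟨y, n, rfl⟩ := hdec x
      exact mul_mem (mem_sup_left ⟨y, rfl⟩) (mem_sup_right (pow_mem (mem_zpowers g₀) n))
    · have e : (MulAut.conjNormal g₀ : MulAut inl'.range) =
          MulAut.congr (MonoidHom.ofInjective hinl) φ := by
        refine MulEquiv.ext fun x => ?_
        obtain ⟨y, rfl⟩ := (MonoidHom.ofInjective hinl).surjective x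
        refine Subtype.ext ?_
        simp only [MulAut.conjNormal_apply, MulAut.congr_apply, MulEquiv.trans_apply,
          MulEquiv.symm_apply_apply]
        exact hconj y
      rw [e]
      exact D₀.transport (MonoidHom.ofInjective hinl)
  intro X _ _ ⟨hX, hXsub⟩ ⟨t, ht⟩
  obtain ⟨P, g, hPn', hP, htop, hg, hne⟩ := exists_decomp hpq hX hXsub ht
  obtain ⟨D, hgq⟩ := data_of_minimal hpq hr hXsub hP htop hg hne
  obtain ⟨k, hk1, hk, hrel⟩ := exists_twist D hω hdeg
  have hcop : k.Coprime q := ((hq.out.coprime_iff_not_dvd).2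
    fun h => absurd (Nat.le_of_dvd hk1 h) (not_le.2 hk)).symm
  set σ : MulAut P := MulAut.conjNormal g ^ k with hσ
  have Dσ : Data p q σ := by
    obtain ⟨l, hl, hkl⟩ := Nat.exists_mul_mod_eq_one_of_coprime hcop hq.out.one_lt
    have hback : MulAut.conjNormal g = σ ^ l := by
      rw [hσ, ← pow_mul, ← Nat.div_add_mod (k * l) q, hkl, pow_add, pow_mul, D.pow, one_pow, one_mul,
        pow_one]
    refine ⟨hP, hq.out, hpq.symm, by rw [hσ, ← pow_mul, mul_comm, pow_mul, D.pow, one_pow],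
      fun h => D.ntriv (by rw [hback, h, one_pow]), fun L hL hne' y hy => ?_⟩
    have hinv : ∀ (n : ℕ) z, z ∈ L → (σ ^ n) z ∈ L := by
      intro n z hz
      induction n with
      | zero => simpa using hz
      | succ n ih => rw [pow_succ', MulAut.mul_apply]; exact hL.le ⟨_, ih, rfl⟩
    have hfix := D.fixed L (CfsgLib.Invol.SchmidtSylow.map_eq_of_mem fun z hz => by
      rw [hback]; exact hinv l z hz) hne' y hy
    have : ∀ n : ℕ, ((MulAut.conjNormal g : MulAut P) ^ n) y = y := by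
      intro n
      induction n with
      | zero => rfl
      | succ n ih => rw [pow_succ', MulAut.mul_apply, ih, hfix]
    exact this k
  obtain ⟨f, hfs, hfeq, hkc, hkfix⟩ := exists_surjection (ω := ω) Dσ hω.pow_eq_one (finrank_eq hK) hdeg
    haq D₀ hbound hrel₀ (fun w => by
      have h1 : MulAut.conjNormal g (rel σ (coeffNat (minpoly (ZMod p) ω)) (a + 1) w) =
          rel σ (coeffNat (minpoly (ZMod p) ω)) (a + 1) w := hrel w
      have h2 : ∀ n : ℕ, ((MulAut.conjNormal g : MulAut P) ^ n)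
          (rel σ (coeffNat (minpoly (ZMod p) ω)) (a + 1) w) =
            rel σ (coeffNat (minpoly (ZMod p) ω)) (a + 1) w := fun n => by
        induction n with
        | zero => rfl
        | succ n ih => rw [pow_succ', MulAut.mul_apply, ih, h1]
      exact h2 k)
  set g' := g ^ k with hg'
  have hordg' : orderOf g' = q ^ r := by
    rw [hg', Nat.Coprime.orderOf_pow (by rw [hg]; exact (hcop.pow_right r).symm), hg]
  let Fx : ℤ →+ Additive X := zmultiplesHom _ (Additive.ofMul g')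
  have hFx : Fx ((q ^ r : ℕ) : ℤ) = 0 := by
    show ((q ^ r : ℕ) : ℤ) • Additive.ofMul g' = 0
    rw [natCast_zsmul, ← ofMul_pow, ← hordg', pow_orderOf_eq_one, ofMul_one]
  let fg : Multiplicative (ZMod (q ^ r)) →* X :=
    AddMonoidHom.toMultiplicativeLeft (ZMod.lift (q ^ r) ⟨Fx, hFx⟩)
  have hfg : fg one' = g' := by
    show Additive.toMul (ZMod.lift (q ^ r) ⟨Fx, hFx⟩ (1 : ZMod (q ^ r))) = g'
    rw [← Int.cast_one, ZMod.lift_coe]
    show Additive.toMul ((1 : ℤ) • Additive.ofMul g') = g'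
    rw [one_zsmul, toMul_ofMul]
  have hequiv : ∀ (n : ℕ) y, f ((φ ^ n) y) = (σ ^ n) (f y) := by
    intro n y
    induction n with
    | zero => rfl
    | succ n ih => rw [pow_succ', MulAut.mul_apply, hfeq, ih, pow_succ', MulAut.mul_apply]
  have hcompat : ∀ c, (P.subtype.comp f).comp (act c).toMonoidHom =
      (MulAut.conj (fg c)).toMonoidHom.comp (P.subtype.comp f) := by
    intro c
    obtain ⟨n, rfl⟩ := hgen c
    refine MonoidHom.ext fun y => ?_
    show ((f (act (one' ^ n) y) : P) : X) = MulAut.conj (fg (one' ^ n)) (f y : X)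
    rw [map_pow act, hact, hequiv, hσ, map_pow fg, hfg, hg', ← map_pow, ← map_pow,
      MulAut.conjNormal_apply, MulAut.conj_apply]
  let Φ : G₀ →* X := SemidirectProduct.lift (P.subtype.comp f) fg hcompat
  have hΦl : ∀ y, Φ (inl' y) = f y := fun y => SemidirectProduct.lift_inl _ _ _ y
  have hΦr : ∀ n : ℕ, Φ (g₀ ^ n) = g' ^ n := fun n => by
    rw [map_pow, hg₀]
    exact congrArg (· ^ n) ((SemidirectProduct.lift_inr _ _ _ one').trans hfg)
  refine ⟨Φ, ?_, fun x hx => ?_⟩
  · rw [← MonoidHom.range_eq_top, eq_top_iff, ← htop]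
    refine sup_le (fun y hy => ?_) (zpowers_le.2 ?_)
    · obtain ⟨z, hz⟩ := hfs ⟨y, hy⟩
      exact ⟨inl' z, by rw [hΦl, hz]⟩
    · obtain ⟨m, hm⟩ := exists_pow_eq_self_of_coprime (x := g) (n := k)
        (by rw [hg]; exact hcop.pow_right r)
      exact ⟨g₀ ^ m, by rw [hΦr, hg', hm]⟩
  · obtain ⟨y, n, rfl⟩ := hdec x
    rw [MonoidHom.mem_ker, map_mul, hΦl, hΦr] at hx
    have h1 : g' ^ n = 1 := by
      refine not_subset_of_orderOf hpq hP hg (pow_mem (pow_mem (mem_zpowers g) k) n) ?_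
      rw [eq_inv_of_mul_eq_one_right hx]
      exact inv_mem (f y).2
    have h2 : g₀ ^ n = 1 := orderOf_dvd_iff_pow_eq_one.1 (by
      rw [hord, ← hordg']; exact orderOf_dvd_of_pow_eq_one h1)
    rw [h1, mul_one] at hx
    have hy : y ∈ f.ker := MonoidHom.mem_ker.2 (Subtype.ext hx)
    rw [h2, mul_one]
    refine mem_center_iff.2 fun z => ?_
    obtain ⟨w, m, rfl⟩ := hdec z
    have c1 : Commute (inl' w) (inl' y) := (show Commute w y from mem_center_iff.1 (hkc hy) w).map inl'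
    have c2 : Commute g₀ (inl' y) := by
      refine mul_inv_eq_iff_eq_mul.1 ?_
      rw [hconj, hkfix y hy]
    exact (c1.mul_left (c2.pow_left m)).eq

end CfsgLib.Schmidt
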